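import Cfsg.Agent.Golay.SuzRankThree.Defs

/-!
The conjugates are determined by their keys.
-/

set_option autoImplicit false

namespace Cfsg.Agent.Golay.SuzRankThree

open Cfsg.Agent.H45 Cfsg.Agent.H32.OutSuz

theorem zSorted_ok : ((allB 4159 fun r => Nat.blt (zKey (cget zSrt r)) (zKey (cget zSrt (r + 1)))) &&
    allB 4160 fun i => Nat.blt (cget zRk i) 4160 && Nat.beq (cget zSrt (cget zRk i)) i) = true := by
  decide +kernel

end Cfsg.Agent.Golay.SuzRankThree
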