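import Cfsg.Agent.Golay.SuzRankThree.Defs

/-!
The table of images of the base under the conjugates.
-/

set_option autoImplicit false

namespace Cfsg.Agent.Golay.SuzRankThree

open Cfsg.Agent.H45 Cfsg.Agent.H32.OutSuz

theorem tableA_ok : (allB 2080 fun i => tabOK i) = true := by decide +kernel

end Cfsg.Agent.Golay.SuzRankThree
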