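import Cfsg.Agent.Golay.SuzRankThree.Checks

/-!
The orbits of the conjugates under the Sylow subgroup.
-/

set_option autoImplicit false

namespace Cfsg.Agent.Golay.SuzRankThree

open Cfsg.Agent.H45 Cfsg.Agent.H32.OutSuz

theorem sTree_ok : (allB 4160 fun i => Nat.blt (cget sLab i) 172 &&
    (Nat.beq (cget sRoots (cget sLab i)) i ||
      (Nat.blt (cget sPar i) 4160 && Nat.blt (cget sDep (cget sPar i)) (cget sDep i) &&
        Nat.beq (cget sLab (cget sPar i)) (cget sLab i) &&
        Nat.beq (actW (bif Nat.beq (cget sGen i) 0 then waW else wbW) (cget sPar i)) i))) = true := by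
  decide +kernel

theorem small_ok : (allB 4 fun t => Nat.beq
    ((List.range 4160).filter fun i => Nat.beq (cget sLab i) (smallLab.getD t 0)).length
    (smallSize.getD t 0)) = true := by
  decide +kernel

end Cfsg.Agent.Golay.SuzRankThree
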