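import Cfsg.Agent.Golay.SuzRankThree.Defs

/-!
The checks of the table of conjugates and of its orbits under the Sylow subgroup.
-/

set_option autoImplicit false
set_option Elab.async false

namespace Cfsg.Agent.Golay.SuzRankThree

open Cfsg.Agent.H45 Cfsg.Agent.H32.OutSuz

/-- Conjugation by a word, on indices. -/
def actW (w : List ℕ) (i : ℕ) : ℕ := w.foldr (fun l j => cget (zA l) j) i

/-- The orbits generating a proper subgroup of a stabiliser. -/
def smallLab : List ℕ := [0, 1, 10, 29]

/-- The sizes of those orbits. -/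
def smallSize : List ℕ := [1, 27, 1, 27]

/-- One symbol: the two Sylow generators and a conjugate. -/
def symAt (i s x : ℕ) : ℕ :=
  bif Nat.beq s 0 then cget aP x else bif Nat.beq s 1 then cget bP x else zImg i x

/-- A word in the three symbols. -/
def symW (i : ℕ) (w : List ℕ) (x : ℕ) : ℕ := w.foldr (fun s y => symAt i s y) x

/-- Repeated application. -/
def iterN : ℕ → (ℕ → ℕ) → ℕ → ℕ
  | 0, _, x => x
  | n + 1, f, x => f (iterN n f x)

/-- The five targets. -/
def target (moved : Bool) (l : ℕ) : List ℕ :=
  bif moved then moveW ++ l :: moveW.reverse else [l]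

/-- One certificate. -/
def witOK (k : ℕ) : Bool :=
  let c := wits.getD k (3, false, [])
  let i := cget sRoots k
  bif Nat.beq c.1 1 then
    let w := c.2.2.getD 0 []
    all5 (fun m => Nat.beq (iterN 13 (symW i w) (bPt m)) (bPt m)) &&
      !(all5 fun m => Nat.beq (symW i w (bPt m)) (bPt m))
  else bif Nat.beq c.1 2 then
    all5 fun l => all5 fun m =>
      Nat.beq (symW i (c.2.2.getD l []) (bPt m)) (wordAt (target c.2.1 l) (bPt m))
  else Nat.beq c.1 0 && smallLab.any (Nat.beq k)

theorem sylow_ok : ((allB 1782 fun x => Nat.beq (wordAt waW x) (cget aP x) &&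
      Nat.beq (wordAt wbW x) (cget bP x) && Nat.beq (wordAt wzW x) (cget zP x)) &&
    [waW, wbW, wzW].all (fun w => w.all fun l => decide (l < 6)) &&
    [waW, wbW].all (fun w => w.all fun l => decide (l < 5)) &&
    Nat.beq (cget sLab 0) 0 && Nat.beq (cget zDep 0) 0 &&
    moveW.all (fun l => decide (l < 6)) && Nat.beq (wordAt moveW 915) 519) = true := by
  decide +kernel

end Cfsg.Agent.Golay.SuzRankThree
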