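import Cfsg.Agent.Golay.SuzRankThree.Parabolic
import Cfsg.Agent.H32.OutSuz.Overgroup

/-!
The invariant sets of the stabilisers in the standard graph on 1782 points.
-/

set_option autoImplicit false
set_option Elab.async false
set_option linter.style.haveILetI false

namespace Cfsg.Agent.Golay.SuzRankThree

open MulAction Cfsg.Agent.H45 Cfsg.Agent.H32.OutSuz
open scoped Pointwise

lemma point_facts (i : Fin 1782) :
    (bget rowZero i.1 = true ↔ cget jLab i.1 = 1 ∨ cget jLab i.1 = 3 ∨ cget jLab i.1 = 5) ∧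
    (bget rowZero i.1 = true ↔ cget lLab i.1 = 2 ∨ cget lLab i.1 = 5) ∧
    (i = pt0 ↔ cget labC i.1 = 0) ∧ (i = pt1 ↔ cget labC i.1 = 1) ∧
    (i = pt915 ↔ cget jLab i.1 = 1) ∧
    (bget rowZero i.1 = true → (bget row915 i.1 = true ↔ cget jLab i.1 = 3)) ∧
    (bget rowOne i.1 = true ↔ cget labC i.1 = 4 ∨ cget labC i.1 = 5) := by
  have h := classes_ok
  simp only [Bool.and_eq_true] at h
  have h1 := allB_spec h.1.1 i.1 i.2
  simp only [Bool.and_eq_true] at h1
  obtain ⟨⟨⟨⟨⟨⟨⟨⟨q1, q2⟩, q3⟩, q4⟩, q5⟩, -⟩, q7⟩, -⟩, q9⟩ := h1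
  refine ⟨?_, ?_, ?_, ?_, ?_, ?_, ?_⟩
  · rw [beqB_eq q1, Bool.or_eq_true, Bool.or_eq_true, Nat.beq_eq, Nat.beq_eq, Nat.beq_eq, or_assoc]
  · rw [beqB_eq q2, Bool.or_eq_true, Nat.beq_eq, Nat.beq_eq]
  · rw [← Nat.beq_eq, ← beqB_eq q3, Nat.beq_eq]; exact ⟨congrArg Fin.val, fun e => Fin.ext e⟩
  · rw [← Nat.beq_eq, ← beqB_eq q4, Nat.beq_eq]; exact ⟨congrArg Fin.val, fun e => Fin.ext e⟩
  · rw [← Nat.beq_eq, ← beqB_eq q5, Nat.beq_eq]; exact ⟨congrArg Fin.val, fun e => Fin.ext e⟩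
  · intro hb
    rw [hb, Bool.not_true, Bool.false_or] at q7
    rw [beqB_eq q7, Nat.beq_eq]
  · rw [beqB_eq q9, Bool.or_eq_true, Nat.beq_eq, Nat.beq_eq]

lemma row915_facts : (∀ x, Rel pt915 x ↔ bget row915 x.1 = true) ∧ Rel pt915 pt0 := by
  have h := classes_ok
  simp only [Bool.and_eq_true] at h
  have hr : ∀ x, Rel pt915 x ↔ bget row915 x.1 = true := rel_iff_row (p := pt915) h.1.2
  exact ⟨hr, (hr pt0).2 h.2⟩

lemma row1_facts : ∀ x, Rel pt1 x ↔ bget rowOne x.1 = true := by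
  have h := fix_ok
  simp only [Bool.and_eq_true] at h
  exact rel_iff_row (p := pt1) h.2

/-- Adjacency is symmetric. -/
lemma rel_symm {i j : Fin 1782} (h : Rel i j) : Rel j i := by
  obtain ⟨g, rfl, rfl⟩ := h
  rw [rel_smul]
  obtain ⟨k, hk⟩ : ptC ∈ orbit H0 pt915 := by
    rw [orbit_915, ← orbit_ptC_eq]; exact mem_orbit_self _
  have h0 : (k : G) • pt0 = pt0 := k.2
  rw [← (show (k : G) • pt915 = ptC from hk)]
  conv => arg 2; rw [← h0]
  rw [rel_smul]
  exact row915_facts.2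

/-- Sets invariant under the stabiliser of the standard neighbour. -/
lemma j_classes {W : Set (Fin 1782)} (hW : ∀ g ∈ J0, ∀ x ∈ W, g • x ∈ W)
    (hsub : ∀ x ∈ W, bget rowZero x.1 = true) (h915 : pt915 ∉ W) :
    (W.ncard = 0 ∨ W.ncard = 100 ∨ W.ncard = 315 ∨ W.ncard = 415) ∧
      (W.ncard = 100 → ∀ x, x ∈ W ↔ bget rowZero x.1 = true ∧ bget row915 x.1 = true) := by
  have ht := jTree_ok
  rw [Bool.and_eq_true] at ht
  obtain ⟨S, hS, hroot, hmem⟩ := exists_classes ht.1 W (by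
    intro cs hcs
    obtain ⟨l, hl, rfl⟩ := List.mem_map.1 hcs
    rw [List.mem_range] at hl
    exact ⟨ev l, fun i => rep_gen (show l < 7 by omega) i, hW _ (ev_mem_J0 hl)⟩)
  have hcount := ncard_classes ht.2 (fun k hk => by
    rw [Finset.mem_powerset] at hS
    exact lt_of_lt_of_eq (Finset.mem_range.1 (hS hk)) (by rfl)) hmem
  have hS' : S ⊆ ({3, 5} : Finset ℕ) := by
    intro k hk
    rw [Finset.mem_powerset] at hS
    have hkr := Finset.mem_range.1 (hS hk)
    have h1 := (hroot k hkr).1 hk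
    have h3 : ∀ k < 6, cget jLab (jRoots.getD k 0 % 1782) = k := by decide +kernel
    have hlab : cget jLab (rootP jRoots k).1 = k := h3 k hkr
    obtain ⟨f1, -, -, -, f5, -, -⟩ := point_facts (rootP jRoots k)
    rcases f1.1 (hsub _ h1) with e | e | e
    · exact absurd ((f5.2 e) ▸ h1) h915
    · rw [hlab] at e; simp [e]
    · rw [hlab] at e; simp [e]
  have hdec : ∀ S ∈ ({3, 5} : Finset ℕ).powerset,
      ((∑ k ∈ S, jSizes.getD k 0) = 0 ∨ (∑ k ∈ S, jSizes.getD k 0) = 100 ∨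
        (∑ k ∈ S, jSizes.getD k 0) = 315 ∨ (∑ k ∈ S, jSizes.getD k 0) = 415) ∧
      ((∑ k ∈ S, jSizes.getD k 0) = 100 → S = {3}) := by
    decide +kernel
  obtain ⟨hd1, hd2⟩ := hdec S (Finset.mem_powerset.2 hS')
  rw [← hcount] at hd1 hd2
  refine ⟨hd1, fun h100 x => ?_⟩
  obtain ⟨f1, -, -, -, -, f6, -⟩ := point_facts x
  rw [hmem, hd2 h100, Finset.mem_singleton]
  constructor
  · intro e
    have hb := f1.2 (Or.inr (Or.inl e))
    exact ⟨hb, (f6 hb).2 e⟩
  · rintro ⟨hb, hr⟩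
    exact (f6 hb).1 hr

lemma pair_classes_aux {W : Set (Fin 1782)} (hW : ∀ g ∈ pairP, ∀ x ∈ W, g • x ∈ W) :
    ∃ S ∈ (Finset.range 7).powerset, W.ncard = (∑ k ∈ S, sizes.getD k 0) ∧
      (∀ k ∈ S, rootPt k ∈ W) ∧ ∀ i, i ∈ W ↔ labN i.1 ∈ S := by
  classical
  refine ⟨(Finset.range 7).filter fun k => rootPt k ∈ W, Finset.mem_powerset.2
    (Finset.filter_subset _ _), ?_, fun k hk => (Finset.mem_filter.1 hk).2, fun i => ?_⟩
  · refine ncard_classes pairSizes_ok
      (fun k hk => lt_of_lt_of_eq (Finset.mem_range.1 (Finset.mem_filter.1 hk).1) (by rfl))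
      fun i => ?_
    rw [Finset.mem_filter, Finset.mem_range, mem_iff_root hW]
    exact (and_iff_right (lab_point i).1).symm
  · rw [Finset.mem_filter, Finset.mem_range, mem_iff_root hW]
    exact (and_iff_right (lab_point i).1).symm

lemma root_lab {k : ℕ} (hk : k < 7) : labN (rootPt k).1 = k := by
  have h : ∀ k < 7, labN (roots.getD k 0 % 1782) = k := by decide +kernel
  exact h k hk

/-- Sets of neighbours of the base point invariant under the pair stabiliser. -/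
lemma p_classes_near {W : Set (Fin 1782)} (hW : ∀ g ∈ pairP, ∀ x ∈ W, g • x ∈ W)
    (hsub : ∀ x ∈ W, bget rowZero x.1 = true) (hcard : W.ncard = 96) (x : Fin 1782) :
    x ∈ W ↔ bget rowZero x.1 = true ∧ bget rowOne x.1 = true := by
  obtain ⟨S, hS, hcount, hroot, hmem⟩ := pair_classes_aux hW
  rw [Finset.mem_powerset] at hS
  have hS' : S ⊆ ({3, 4} : Finset ℕ) := by
    intro k hk
    have hk7 := Finset.mem_range.1 (hS hk)
    rcases ((lab_point _).2.2).1 (hsub _ (hroot k hk)) with e | e <;>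
      rw [root_lab hk7] at e <;> simp [e]
  have hdec : ∀ S ∈ ({3, 4} : Finset ℕ).powerset,
      (∑ k ∈ S, sizes.getD k 0) = 96 → S = {4} := by decide +kernel
  obtain ⟨-, -, -, -, -, -, f7⟩ := point_facts x
  rw [hmem, hdec S (Finset.mem_powerset.2 hS') (hcount.symm.trans hcard), Finset.mem_singleton,
    (lab_point x).2.2, f7]
  unfold labN
  omega

/-- Sets of non-neighbours of the base point invariant under the pair stabiliser. -/
lemma p_classes_far {W : Set (Fin 1782)} (hW : ∀ g ∈ pairP, ∀ x ∈ W, g • x ∈ W)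
    (hsub : ∀ x ∈ W, bget rowZero x.1 = false ∧ x ≠ pt0 ∧ x ≠ pt1) (hcard : W.ncard = 320)
    (x : Fin 1782) : x ∈ W ↔ bget rowZero x.1 = false ∧ bget rowOne x.1 = true := by
  obtain ⟨S, hS, hcount, hroot, hmem⟩ := pair_classes_aux hW
  rw [Finset.mem_powerset] at hS
  have hS' : S ⊆ ({2, 5, 6} : Finset ℕ) := by
    intro k hk
    have hk7 := Finset.mem_range.1 (hS hk)
    obtain ⟨hb, h0, h1⟩ := hsub _ (hroot k hk)
    have hnot : ¬ (labN (rootPt k).1 = 3 ∨ labN (rootPt k).1 = 4) := fun e => by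
      have := ((lab_point _).2.2).2 e
      rw [hb] at this; exact absurd this (by simp)
    rw [root_lab hk7] at hnot
    have hk0 : k ≠ 0 := fun e => h0 (by rw [e, rootPt_zero])
    have hk1 : k ≠ 1 := fun e => h1 (by rw [e, rootPt_one])
    simp only [Finset.mem_insert, Finset.mem_singleton]
    omega
  have hdec : ∀ S ∈ ({2, 5, 6} : Finset ℕ).powerset,
      (∑ k ∈ S, sizes.getD k 0) = 320 → S = {5} := by decide +kernel
  obtain ⟨-, -, -, -, -, -, f7⟩ := point_facts x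
  rw [hmem, hdec S (Finset.mem_powerset.2 hS') (hcount.symm.trans hcard), Finset.mem_singleton,
    Bool.eq_false_iff, ne_eq, (lab_point x).2.2, f7]
  unfold labN
  omega

/-- The stabiliser of the line moves the neighbours in orbits of lengths 160 and 256. -/
lemma line_classes {W : Set (Fin 1782)} (hW : ∀ g ∈ LStab, ∀ x ∈ W, g • x ∈ W)
    (hsub : ∀ x ∈ W, bget rowZero x.1 = true) : W.ncard ≠ 96 := by
  have ht := lTree_ok
  rw [Bool.and_eq_true] at ht
  obtain ⟨S, hS, hroot, hmem⟩ := exists_classes ht.1 W (by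
    intro cs hcs
    obtain ⟨g, hg, he⟩ := lGens_exist cs hcs
    exact ⟨g, he, hW g hg⟩)
  rw [Finset.mem_powerset] at hS
  have hcount := ncard_classes ht.2
    (fun k hk => lt_of_lt_of_eq (Finset.mem_range.1 (hS hk)) (by rfl)) hmem
  have hS' : S ⊆ ({2, 5} : Finset ℕ) := by
    intro k hk
    have hkr := Finset.mem_range.1 (hS hk)
    have h3 : ∀ k < 6, cget lLab (lRoots.getD k 0 % 1782) = k := by decide +kernel
    have hlab : cget lLab (rootP lRoots k).1 = k := h3 k hkr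
    obtain ⟨-, f2, -⟩ := point_facts (rootP lRoots k)
    rcases f2.1 (hsub _ ((hroot k hkr).1 hk)) with e | e <;> rw [hlab] at e <;> simp [e]
  have hdec : ∀ S ∈ ({2, 5} : Finset ℕ).powerset, (∑ k ∈ S, lSizes.getD k 0) ≠ 96 := by
    decide +kernel
  rw [hcount]
  exact hdec S (Finset.mem_powerset.2 hS')

end Cfsg.Agent.Golay.SuzRankThree
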