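import Cfsg.Agent.Golay.SuzRankThree.Defs

/-!
Conjugation by the letter 1 on the conjugates of the element of order three.
-/

set_option autoImplicit false

namespace Cfsg.Agent.Golay.SuzRankThree

open Cfsg.Agent.H32.OutSuz

theorem step1_ok : (allB 4160 fun i => stepOK 1 i) = true := by decide +kernel

end Cfsg.Agent.Golay.SuzRankThree
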