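import Cfsg.Agent.Golay.SuzRankThree.Tools
import Cfsg.Agent.Golay.SuzRankThree.Checks
import Cfsg.Agent.Golay.SuzRankThree.StepCheck0
import Cfsg.Agent.Golay.SuzRankThree.StepCheck1
import Cfsg.Agent.Golay.SuzRankThree.StepCheck2
import Cfsg.Agent.Golay.SuzRankThree.StepCheck3
import Cfsg.Agent.Golay.SuzRankThree.StepCheck4
import Cfsg.Agent.Golay.SuzRankThree.StepCheck5
import Cfsg.Agent.Golay.SuzRankThree.CheckTableA
import Cfsg.Agent.Golay.SuzRankThree.CheckTableB
import Cfsg.Agent.Golay.SuzRankThree.CheckSorted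

/-!
The conjugates of an element of order three in a point stabiliser.
-/

set_option autoImplicit false
set_option Elab.async false
set_option linter.style.haveILetI false

namespace Cfsg.Agent.Golay.SuzRankThree

open MulAction Cfsg.Agent.H45 Cfsg.Agent.H32.OutSuz

/-- The point stabiliser. -/
noncomputable abbrev H0 : Subgroup G := stabilizer G pt0

lemma wsub_eq : H0 = Subgroup.closure {g : G | ∃ l < 6, ev l = g} := by
  rw [H0, stab0_eq, SuzMain.H, Pres.wsub]
  congr 1
  ext g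
  constructor
  · rintro ⟨w, hw, rfl⟩
    simp only [SuzI1782.subWords, List.mem_cons, List.not_mem_nil, or_false] at hw
    rcases hw with rfl | rfl | rfl | rfl | rfl | rfl <;>
      exact ⟨_, by norm_num, List.prod_singleton.symm⟩
  · rintro ⟨l, hl, rfl⟩
    exact ⟨[l], by interval_cases l <;> simp [SuzI1782.subWords], List.prod_singleton⟩

lemma ev_mem {l : ℕ} (hl : l < 6) : ev l ∈ H0 := by
  rw [wsub_eq]; exact Subgroup.subset_closure ⟨l, hl, rfl⟩

lemma ev_sq (l : ℕ) : ev l * ev l = 1 := by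
  have h : (ev l)⁻¹ = ev l := (eOf_inv SuzPres.ok.sq l).symm
  nth_rw 1 [← h]
  exact inv_mul_cancel _

lemma ev_inv (l : ℕ) : (ev l)⁻¹ = ev l := (eOf_inv SuzPres.ok.sq l).symm

lemma all_lt {w : List ℕ} {n : ℕ} (hn : n ≤ 7) (h : w.all (fun l => decide (l < n)) = true) :
    w.all (fun l => decide (l < 7)) = true := by
  simp only [List.all_eq_true, decide_eq_true_eq] at h ⊢
  exact fun l hl => lt_of_lt_of_le (h l hl) hn

lemma wd_mem_of {Y : Subgroup G} : ∀ {w : List ℕ}, (∀ l ∈ w, ev l ∈ Y) → wd w ∈ Y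
  | [], _ => Y.one_mem
  | l :: w, h => by
    rw [wd, evalW_cons]
    exact mul_mem (h l List.mem_cons_self) (wd_mem_of fun a ha => h a (List.mem_cons_of_mem _ ha))

lemma wd_mem {w : List ℕ} (h : w.all (fun l => decide (l < 6)) = true) : wd w ∈ H0 :=
  wd_mem_of fun l hl => ev_mem (of_decide_eq_true (List.all_eq_true.1 h l hl))

/-- The first generator of the Sylow subgroup. -/
noncomputable def elA : G := wd waW

/-- The second generator of the Sylow subgroup. -/
noncomputable def elB : G := wd wbW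

/-- The central element of order three. -/
noncomputable def elZ : G := wd wzW

lemma sylow_words : waW.all (fun l => decide (l < 6)) = true ∧
    wbW.all (fun l => decide (l < 6)) = true ∧ wzW.all (fun l => decide (l < 6)) = true := by
  have h := sylow_ok
  simp only [Bool.and_eq_true, List.all_cons, List.all_nil, and_true] at h
  exact h.1.1.1.1.1.2

lemma elA_mem : elA ∈ H0 := wd_mem sylow_words.1

lemma elB_mem : elB ∈ H0 := wd_mem sylow_words.2.1

lemma elZ_mem : elZ ∈ H0 := wd_mem sylow_words.2.2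

lemma sylow_reps : Rep elA aP ∧ Rep elB bP ∧ Rep elZ zP := by
  have h := sylow_ok
  simp only [Bool.and_eq_true] at h
  obtain ⟨⟨⟨⟨⟨⟨hr, -⟩, -⟩, -⟩, -⟩, -⟩, -⟩ := h
  have hx : ∀ x : Fin 1782, wordAt waW x.1 = cget aP x.1 ∧ wordAt wbW x.1 = cget bP x.1 ∧
      wordAt wzW x.1 = cget zP x.1 := fun x => by
    have := allB_spec hr x.1 x.2
    simp only [Bool.and_eq_true, Nat.beq_eq] at this
    exact ⟨this.1.1, this.1.2, this.2⟩
  obtain ⟨wa, wb, wz⟩ := sylow_words
  exact ⟨fun x => (wd_smul (all_lt (by norm_num) wa) x).trans (hx x).1,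
    fun x => (wd_smul (all_lt (by norm_num) wb) x).trans (hx x).2.1,
    fun x => (wd_smul (all_lt (by norm_num) wz) x).trans (hx x).2.2⟩

/-! ### The table of conjugates -/

/-- The element has the images of the base listed at an index. -/
def ZN (g : G) (i : ℕ) : Prop := i < 4160 ∧ ∀ k : Fin 5, (g • ptB k).1 = cget (zT k.1) i

lemma bPt_eq (k : Fin 5) : (ptB k).1 = bPt k.1 := by fin_cases k <;> rfl

lemma zn_elem {g h : G} {i : ℕ} (hg : ZN g i) (hh : ZN h i) : g = h := by
  have h1 : h⁻¹ * g = 1 := eq_one_of_fix fun k => by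
    rw [mul_smul, inv_smul_eq_iff]
    exact Fin.ext ((hg.2 k).trans (hh.2 k).symm)
  exact (inv_mul_eq_one.1 h1).symm

lemma zn_idx {g : G} {i i' : ℕ} (hg : ZN g i) (hg' : ZN g i') : i = i' := by
  have hk : zKey i = zKey i' := by
    have e : ∀ k < 5, cget (zT k) i = cget (zT k) i' := fun k hk =>
      (hg.2 ⟨k, hk⟩).symm.trans (hg'.2 ⟨k, hk⟩)
    simp only [zKey, List.range_succ, List.range_zero, List.nil_append, List.cons_append,
      List.foldr_cons, List.foldr_nil, e 0 (by norm_num), e 1 (by norm_num), e 2 (by norm_num),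
      e 3 (by norm_num), e 4 (by norm_num)]
  have hs := zSorted_ok
  rw [Bool.and_eq_true] at hs
  obtain ⟨hs1, hs2⟩ := hs
  have hmono : ∀ d r, r + d + 1 < 4160 → zKey (cget zSrt r) < zKey (cget zSrt (r + d + 1)) := by
    intro d
    induction d with
    | zero => intro r hr; exact Nat.blt_eq ▸ allB_spec hs1 r (by omega)
    | succ d ih =>
      intro r hr
      exact (ih r (by omega)).trans (Nat.blt_eq ▸ allB_spec hs1 (r + d + 1) (by omega))
  have hr : ∀ i < 4160, cget zRk i < 4160 ∧ cget zSrt (cget zRk i) = i := fun i hi => by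
    have h := allB_spec hs2 i hi
    simp only [Bool.and_eq_true, Nat.blt_eq] at h
    exact ⟨h.1, Nat.eq_of_beq_eq_true h.2⟩
  obtain ⟨a1, a2⟩ := hr i hg.1
  obtain ⟨b1, b2⟩ := hr i' hg'.1
  rcases Nat.lt_trichotomy (cget zRk i) (cget zRk i') with h | h | h
  · have := hmono (cget zRk i' - cget zRk i - 1) (cget zRk i) (by omega)
    rw [show cget zRk i + (cget zRk i' - cget zRk i - 1) + 1 = cget zRk i' by omega, a2, b2,
      hk] at this
    exact absurd this (lt_irrefl _)
  · rw [← a2, h, b2]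
  · have := hmono (cget zRk i - cget zRk i' - 1) (cget zRk i') (by omega)
    rw [show cget zRk i' + (cget zRk i - cget zRk i' - 1) + 1 = cget zRk i by omega, a2, b2,
      hk] at this
    exact absurd this (lt_irrefl _)

lemma table_spec {i : ℕ} (hi : i < 4160) :
    cget zGen i < 6 ∧ cget zPar i < 4160 ∧ ∀ k < 5, zImg i (bPt k) = cget (zT k) i := by
  have h : tabOK i = true := by
    by_cases h : i < 2080
    · exact allB_spec tableA_ok i h
    · have h2 := allB_spec tableB_ok (i - 2080) (by omega)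
      rwa [show 2080 + (i - 2080) = i by omega] at h2
  simp only [tabOK, Bool.and_eq_true, Nat.blt_eq] at h
  exact ⟨h.1.1, h.1.2, fun k hk => Nat.eq_of_beq_eq_true (all5_spec h.2 k hk)⟩

/-- Every evaluation is the one of a conjugate. -/
lemma exists_conj : ∀ f i, i < 4160 →
    ∃ g ∈ conjSet H0 elZ, ∀ x : Fin 1782, (g • x).1 = zAt f i x.1
  | 0, _, _ => ⟨elZ, ⟨1, one_mem _, by rw [one_mul, inv_one, mul_one]⟩, fun x => sylow_reps.2.2 x⟩
  | f + 1, i, hi => by
    obtain ⟨g, ⟨h, hh, rfl⟩, hg⟩ := exists_conj f (cget zPar i) (table_spec hi).2.1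
    refine ⟨ev (cget zGen i) * (h * elZ * h⁻¹) * ev (cget zGen i),
      ⟨ev (cget zGen i) * h, mul_mem (ev_mem (table_spec hi).1) hh, ?_⟩, fun x => ?_⟩
    · rw [mul_inv_rev, ev_inv]
      simp only [mul_assoc]
    · have hl : cget zGen i < 7 := lt_trans (table_spec hi).1 (by norm_num)
      rw [mul_smul, mul_smul, rep_gen hl, hg, rep_gen hl]
      rfl

/-- The conjugate of an index. -/
noncomputable def zEl (i : ℕ) : G :=
  if h : i < 4160 then (exists_conj (cget zDep i) i h).choose else 1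

lemma zEl_mem {i : ℕ} (hi : i < 4160) : zEl i ∈ conjSet H0 elZ := by
  rw [zEl, dif_pos hi]; exact (exists_conj (cget zDep i) i hi).choose_spec.1

lemma zEl_smul {i : ℕ} (hi : i < 4160) (x : Fin 1782) : (zEl i • x).1 = zImg i x.1 := by
  rw [zEl, dif_pos hi]; exact (exists_conj (cget zDep i) i hi).choose_spec.2 x

lemma zn_zEl {i : ℕ} (hi : i < 4160) : ZN (zEl i) i :=
  ⟨hi, fun k => by rw [zEl_smul hi, bPt_eq, (table_spec hi).2.2 k.1 k.2]⟩

lemma zEl_zero : zEl 0 = elZ := by
  have h := sylow_ok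
  simp only [Bool.and_eq_true] at h
  have hd := Nat.eq_of_beq_eq_true h.1.1.2
  refine eq_of_smul_eq_smul fun x : Fin 1782 => Fin.ext ?_
  rw [zEl_smul (by norm_num), zImg, hd]
  exact (sylow_reps.2.2 x).symm

lemma step_spec {l i : ℕ} (hl : l < 6) (hi : i < 4160) : stepOK l i = true := by
  obtain rfl | rfl | rfl | rfl | rfl | rfl :
      l = 0 ∨ l = 1 ∨ l = 2 ∨ l = 3 ∨ l = 4 ∨ l = 5 := by omega
  exacts [allB_spec step0_ok i hi, allB_spec step1_ok i hi, allB_spec step2_ok i hi,
    allB_spec step3_ok i hi, allB_spec step4_ok i hi, allB_spec step5_ok i hi]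

lemma step_main {l i : ℕ} (hl : l < 6) (hi : i < 4160) (hji : ¬ cget (zA l) i < i) :
    cget (zA l) i < 4160 ∧ ev l * zEl i * ev l = zEl (cget (zA l) i) := by
  have h := step_spec hl hi
  simp only [stepOK, Bool.and_eq_true, Nat.blt_eq] at h
  obtain ⟨hj, h⟩ := h
  rw [show Nat.blt (cget (zA l) i) i = false by
    rw [Bool.eq_false_iff, ne_eq, Nat.blt_eq]; exact hji, cond_false] at h
  refine ⟨hj, zn_elem ⟨hj, fun k => ?_⟩ (zn_zEl hj)⟩
  rw [mul_smul, mul_smul, rep_gen (show l < 7 by omega), zEl_smul hi, rep_gen (show l < 7 by omega),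
    bPt_eq]
  exact Nat.eq_of_beq_eq_true (all5_spec h k.1 k.2)

/-- The table describes conjugation by the letters. -/
lemma zEl_ev {l i : ℕ} (hl : l < 6) (hi : i < 4160) :
    cget (zA l) i < 4160 ∧ ev l * zEl i * ev l = zEl (cget (zA l) i) := by
  by_cases hji : cget (zA l) i < i
  · have h := step_spec hl hi
    simp only [stepOK, Bool.and_eq_true, Nat.blt_eq] at h
    obtain ⟨hj, h⟩ := h
    rw [show Nat.blt (cget (zA l) i) i = true from Nat.blt_eq ▸ hji, cond_true] at h
    refine ⟨hj, ?_⟩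
    have h2 := (step_main hl hj (by rw [Nat.eq_of_beq_eq_true h]; omega)).2
    rw [Nat.eq_of_beq_eq_true h] at h2
    rw [← h2, ← mul_assoc, ← mul_assoc, ev_sq, one_mul, mul_assoc, ev_sq, mul_one]
  · exact step_main hl hi hji

lemma zEl_actW : ∀ {w : List ℕ}, (∀ l ∈ w, l < 6) → ∀ {i : ℕ}, i < 4160 →
    actW w i < 4160 ∧ wd w * zEl i * (wd w)⁻¹ = zEl (actW w i)
  | [], _, i, hi => ⟨hi, by
      show (1 : G) * zEl i * (1 : G)⁻¹ = zEl i
      rw [one_mul, inv_one, mul_one]⟩
  | l :: w, hw, i, hi => by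
    obtain ⟨h1, h2⟩ := zEl_actW (fun a ha => hw a (List.mem_cons_of_mem _ ha)) hi
    obtain ⟨h3, h4⟩ := zEl_ev (hw l List.mem_cons_self) h1
    refine ⟨h3, ?_⟩
    show wd (l :: w) * zEl i * (wd (l :: w))⁻¹ = zEl (cget (zA l) (actW w i))
    rw [wd, evalW_cons, mul_inv_rev, ev_inv, ← h4, ← h2]
    simp only [wd, mul_assoc]

/-- Every conjugate is listed. -/
lemma exists_idx {g : G} (hg : g ∈ conjSet H0 elZ) : ∃ i < 4160, g = zEl i := by
  obtain ⟨h, hh, rfl⟩ := hg
  have hh' : h ∈ Submonoid.closure {g : G | ∃ l < 6, ev l = g} := by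
    rw [wsub_eq] at hh
    rw [← Subgroup.closure_toSubmonoid_of_finite]
    exact hh
  induction hh' using Submonoid.closure_induction_left with
  | one => exact ⟨0, by norm_num, by rw [one_mul, inv_one, mul_one, zEl_zero]⟩
  | mul_left x hx y hy ih =>
    obtain ⟨l, hl, rfl⟩ := hx
    obtain ⟨i, hi, e⟩ := ih (by
      rw [wsub_eq]
      have h1 : y ∈ (Subgroup.closure {g : G | ∃ l < 6, ev l = g}).toSubmonoid := by
        rw [Subgroup.closure_toSubmonoid_of_finite]; exact hy
      exact h1)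
    obtain ⟨h1, h2⟩ := zEl_ev hl hi
    refine ⟨_, h1, ?_⟩
    rw [← h2, ← e, mul_inv_rev, ev_inv]
    simp only [mul_assoc]

lemma zEl_inj {i j : ℕ} (hi : i < 4160) (hj : j < 4160) (h : zEl i = zEl j) : i = j :=
  zn_idx (h ▸ zn_zEl hi) (zn_zEl hj)

lemma ncard_conjSet_elZ : (conjSet H0 elZ).ncard = 4160 := by
  rw [← Nat.card_coe_set_eq, ← Nat.card_fin 4160]
  refine (Nat.card_congr (Equiv.ofBijective
    (fun i : Fin 4160 => (⟨zEl i.1, zEl_mem i.2⟩ : conjSet H0 elZ)) ⟨?_, ?_⟩)).symm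
  · intro i j h
    exact Fin.ext (zEl_inj i.2 j.2 (congrArg Subtype.val h))
  · rintro ⟨g, hg⟩
    obtain ⟨i, hi, rfl⟩ := exists_idx hg
    exact ⟨⟨i, hi⟩, rfl⟩

/-- The centraliser of the element in the point stabiliser. -/
lemma card_centralizer_elZ :
    Nat.card (H0 ⊓ Subgroup.centralizer ({elZ} : Set G) : Subgroup G) = 60480 := by
  have h := ncard_conjSet_mul H0 elZ
  rw [ncard_conjSet_elZ, card_stab0] at h
  exact Nat.eq_of_mul_eq_mul_left (show 0 < 4160 by norm_num)
    (h.trans (by norm_num : (251596800 : ℕ) = 4160 * 60480))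

end Cfsg.Agent.Golay.SuzRankThree
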