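import Cfsg.Agent.H32.OutSuz.Sylow
import Cfsg.Agent.Golay.SuzRankThree.Data

/-!
Computable maps used by the certificates for the subgroups of a point stabiliser of the Suzuki
group.
-/

set_option autoImplicit false

namespace Cfsg.Agent.Golay.SuzRankThree

open Cfsg.Agent.H45 Cfsg.Agent.H32.OutSuz

/-- A letter as a packed permutation. -/
abbrev colL (l : ℕ) : ℕ := SuzI1782.cols.getD l 0

/-- The image of a point under a product of packed permutations. -/
def evalC (cs : List ℕ) (x : ℕ) : ℕ := cs.foldr (fun P y => cget P y) x

/-- The image of a point under a conjugate of the element of order three. -/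
def zAt : ℕ → ℕ → ℕ → ℕ
  | 0, _, x => cget zP x
  | f + 1, i, x =>
    cget (colL (cget zGen i)) (zAt f (cget zPar i) (cget (colL (cget zGen i)) x))

/-- A conjugate. -/
def zImg (i x : ℕ) : ℕ := zAt (cget zDep i) i x

/-- The images of a base point under the conjugates. -/
def zT (k : ℕ) : ℕ := [zT0, zT1, zT2, zT3, zT4].getD k 0

/-- Conjugation by a letter, on indices. -/
def zA (l : ℕ) : ℕ := [zA0, zA1, zA2, zA3, zA4, zA5].getD l 0

/-- The key of a conjugate. -/
def zKey (i : ℕ) : ℕ :=
  (List.range 5).foldr (fun k acc => Nat.add (Nat.mul 2048 acc) (cget (zT k) i)) 0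

/-- A base point. -/
def bPt (k : ℕ) : ℕ := base5.getD k 0

/-- A check for the five base points. -/
def all5 (f : ℕ → Bool) : Bool := (List.range 5).all f

lemma all5_spec {f : ℕ → Bool} (h : all5 f = true) (k : ℕ) (hk : k < 5) : f k = true :=
  List.all_eq_true.1 h k (List.mem_range.2 hk)

/-- One step of the table of the conjugation action. -/
def stepOK (l i : ℕ) : Bool :=
  let j := cget (zA l) i
  Nat.blt j 4160 && bif Nat.blt j i then Nat.beq (cget (zA l) j) i else
    all5 fun k => Nat.beq (cget (colL l) (zImg i (cget (colL l) (bPt k)))) (cget (zT k) j)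

/-- The table of the images of the base points. -/
def tabOK (i : ℕ) : Bool :=
  Nat.blt (cget zGen i) 6 && Nat.blt (cget zPar i) 4160 && all5 fun k => Nat.beq (zImg i (bPt k)) (cget (zT k) i)

end Cfsg.Agent.Golay.SuzRankThree
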