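import Cfsg.Agent.Golay.SuzRankThree.Classes

/-!
A rank three group with the suborbits of the Suzuki group preserves a copy of its graph.
-/

set_option autoImplicit false
set_option Elab.async false
set_option linter.style.haveILetI false

set_option linter.unusedSectionVars false

namespace Cfsg.Agent.Golay.SuzRankThree

open MulAction Cfsg.Agent.H45 Cfsg.Agent.H32.OutSuz
open scoped Pointwise

variable {Ω : Type*} [Fintype Ω] [DecidableEq Ω] {P : Type*} [Group P] [MulAction P Ω]

/-- The orbital of a pair. -/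
def Edge (P : Type*) [Group P] [MulAction P Ω] (a b x y : Ω) : Prop :=
  ∃ g : P, g • a = x ∧ g • b = y

omit [Fintype Ω] [DecidableEq Ω] in
lemma edge_smul {a b : Ω} {g : P} {x y : Ω} : Edge P a b (g • x) (g • y) ↔ Edge P a b x y := by
  constructor
  · rintro ⟨h, h1, h2⟩
    exact ⟨g⁻¹ * h, by rw [mul_smul, h1, inv_smul_smul], by rw [mul_smul, h2, inv_smul_smul]⟩
  · rintro ⟨h, h1, h2⟩
    exact ⟨g * h, by rw [mul_smul, h1], by rw [mul_smul, h2]⟩

/-- The hypothesis, with matched point stabilisers. -/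
structure Setup (P : Type*) [Group P] [MulAction P Ω] (a b c : Ω) where
  card_pts : Fintype.card Ω = 1782
  trans : ∀ x y : Ω, ∃ g : P, g • x = y
  ι : stabilizer P a ≃* H0
  orb_b : (orbit (stabilizer P a) b).ncard = 416
  orb_c : (orbit (stabilizer P a) c).ncard = 1365
  stab_b : ∀ g : stabilizer P a, g • b = b ↔ (ι g : G) • pt915 = pt915
  stab_c : (∀ g : stabilizer P a, g • c = c ↔ (ι g : G) • pt1 = pt1) ∨
    (∀ g : stabilizer P a, g • c = c ↔ (ι g : G) • lineSet = lineSet)

namespace Setup

variable {a b c : Ω} (D : Setup P a b c)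
include D

omit [DecidableEq Ω] in
lemma not_mem_self {x : Ω} {n : ℕ} (h : (orbit (stabilizer P a) x).ncard = n) (hn : n ≠ 1) :
    a ∉ orbit (stabilizer P a) x := by
  intro ha
  rw [← orbit_eq_iff.2 ha] at h
  have e : orbit (stabilizer P a) a = {a} := by
    ext y
    constructor
    · rintro ⟨g, rfl⟩; exact g.2
    · rintro rfl; exact mem_orbit_self _
  rw [e, Set.ncard_singleton] at h
  exact hn h.symm

lemma disjoint_NM : Disjoint (orbit (stabilizer P a) b) (orbit (stabilizer P a) c) := by
  rw [Set.disjoint_left]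
  intro x h1 h2
  have := D.orb_b
  rw [← orbit_eq_iff.2 h1, orbit_eq_iff.2 h2, D.orb_c] at this
  omega

lemma cases (x : Ω) :
    x = a ∨ x ∈ orbit (stabilizer P a) b ∨ x ∈ orbit (stabilizer P a) c := by
  classical
  have hu : (insert a (orbit (stabilizer P a) b ∪ orbit (stabilizer P a) c) : Set Ω) = Set.univ := by
    refine Set.eq_of_subset_of_ncard_le (Set.subset_univ _) ?_ (Set.toFinite _)
    rw [Set.ncard_univ, Nat.card_eq_fintype_card, D.card_pts,
      Set.ncard_insert_of_notMem (fun h => h.elim (D.not_mem_self D.orb_b (by norm_num))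
        (D.not_mem_self D.orb_c (by norm_num))) (Set.toFinite _),
      Set.ncard_union_eq D.disjoint_NM (Set.toFinite _) (Set.toFinite _), D.orb_b, D.orb_c]
  have hx := Set.mem_univ x
  rw [← hu] at hx
  simpa using hx

lemma edge_base {y : Ω} : Edge P a b a y ↔ y ∈ orbit (stabilizer P a) b := by
  constructor
  · rintro ⟨g, h1, h2⟩; exact ⟨⟨g, h1⟩, h2⟩
  · rintro ⟨g, rfl⟩; exact ⟨g, g.2, rfl⟩

lemma edge_irrefl (x : Ω) : ¬ Edge P a b x x := by
  rintro ⟨g, h1, h2⟩
  refine D.not_mem_self D.orb_b (by norm_num) ?_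
  rw [← smul_left_cancel g (h2.trans h1.symm)]
  exact mem_orbit_self _

open Classical in
/-- The neighbours of a point. -/
noncomputable def nb (_D : Setup P a b c) (x : Ω) : Finset Ω :=
  Finset.univ.filter fun y => Edge P a b x y

lemma mem_nb {x y : Ω} : y ∈ D.nb x ↔ Edge P a b x y := by simp [nb]

lemma nb_smul (g : P) (x : Ω) : D.nb (g • x) = (D.nb x).image fun y => g • y := by
  classical
  ext y
  simp only [Finset.mem_image, mem_nb]
  constructor
  · intro h
    exact ⟨g⁻¹ • y, by rw [← edge_smul (g := g), smul_inv_smul]; exact h, smul_inv_smul g y⟩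
  · rintro ⟨z, hz, rfl⟩
    exact edge_smul.2 hz

lemma card_nb (x : Ω) : (D.nb x).card = 416 := by
  classical
  obtain ⟨g, rfl⟩ := D.trans a x
  rw [D.nb_smul, Finset.card_image_of_injective _ (MulAction.injective g), ← D.orb_b,
    ← Set.ncard_coe_finset]
  congr 1
  ext y
  rw [Finset.mem_coe, mem_nb, edge_base D]

lemma edge_symm {x y : Ω} (h : Edge P a b x y) : Edge P a b y x := by
  classical
  suffices hb : Edge P a b b a by
    obtain ⟨g, rfl, rfl⟩ := h
    exact edge_smul.2 hb
  set In : Ω → Finset Ω := fun x => Finset.univ.filter fun y => Edge P a b y x with hIn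
  have hInsmul : ∀ (g : P) x, (In (g • x)).card = (In x).card := by
    intro g x
    rw [← Finset.card_image_of_injective (In x) (MulAction.injective g)]
    congr 1
    ext y
    simp only [hIn, Finset.mem_filter, Finset.mem_univ, true_and, Finset.mem_image]
    constructor
    · intro h
      exact ⟨g⁻¹ • y, by rw [← edge_smul (g := g), smul_inv_smul]; exact h, smul_inv_smul g y⟩
    · rintro ⟨z, hz, rfl⟩
      exact edge_smul.2 hz
  have hIn416 : (In a).card = 416 := by
    have hd := Finset.sum_card_bipartiteAbove_eq_sum_card_bipartiteBelow (r := Edge P a b)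
      (s := (Finset.univ : Finset Ω)) (t := (Finset.univ : Finset Ω))
    rw [Finset.sum_congr rfl (fun x _ => show (Finset.univ.bipartiteAbove (Edge P a b) x).card = 416
        from D.card_nb x),
      Finset.sum_congr rfl (fun x _ => show (Finset.univ.bipartiteBelow (Edge P a b) x).card
        = (In a).card by
          obtain ⟨g, rfl⟩ := D.trans a x
          exact hInsmul g a),
      Finset.sum_const, Finset.sum_const, Finset.card_univ, D.card_pts] at hd
    simp only [smul_eq_mul] at hd
    omega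
  obtain ⟨g₀, hg₀⟩ := D.trans b a
  have hy₀ : Edge P a b (g₀ • a) a := ⟨g₀, rfl, hg₀⟩
  have hinv : ∀ y, Edge P a b y a → ∀ z ∈ orbit (stabilizer P a) y, Edge P a b z a := by
    rintro y hy z ⟨g, rfl⟩
    have := (edge_smul (g := (g : P))).2 hy
    rw [show (g : P) • a = a from g.2] at this
    exact this
  have hnoM : ∀ y, Edge P a b y a → y ∉ orbit (stabilizer P a) c := by
    intro y hy hyc
    have hsub : orbit (stabilizer P a) c ⊆ (In a : Set Ω) := by
      intro z hz
      rw [← orbit_eq_iff.2 hyc] at hz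
      simp [hIn, hinv y hy z hz]
    have := Set.ncard_le_ncard hsub (Set.toFinite _)
    rw [D.orb_c, Set.ncard_coe_finset, hIn416] at this
    omega
  rcases D.cases (g₀ • a) with e | e | e
  · exact absurd hy₀ (fun h => D.edge_irrefl a (by rwa [e] at h))
  · exact hinv _ hy₀ b (by rw [orbit_eq_iff.2 e]; exact mem_orbit_self b)
  · exact absurd e (hnoM _ hy₀)

/-! ### Transfer of orbits -/

/-- The two points have matching stabilisers. -/
def Match (D : Setup P a b c) (x : Ω) (p : Fin 1782) : Prop :=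
  ∀ g : stabilizer P a, g • x = x ↔ (D.ι g : G) • p = p

lemma match_iff {x : Ω} {p : Fin 1782} (hm : D.Match x p) (g k : stabilizer P a) :
    g • x = k • x ↔ (D.ι g : G) • p = (D.ι k : G) • p := by
  rw [← inv_smul_eq_iff, ← mul_smul, hm, map_mul, map_inv, Subgroup.coe_mul, Subgroup.coe_inv,
    mul_smul, inv_smul_eq_iff]

/-- The image of a part of an orbit. -/
def img (D : Setup P a b c) (x : Ω) (p : Fin 1782) (Q : Ω → Prop) : Set (Fin 1782) :=
  {z | ∃ g : stabilizer P a, Q (g • x) ∧ (D.ι g : G) • p = z}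

lemma ncard_img {x : Ω} {p : Fin 1782} (hm : D.Match x p) (Q : Ω → Prop) :
    (D.img x p Q).ncard = {y | y ∈ orbit (stabilizer P a) x ∧ Q y}.ncard := by
  symm
  have hex : ∀ y ∈ {y | y ∈ orbit (stabilizer P a) x ∧ Q y}, ∃ g : stabilizer P a, g • x = y :=
    fun y hy => hy.1
  choose g hg using hex
  refine Set.ncard_congr (fun y hy => (D.ι (g y hy) : G) • p) ?_ ?_ ?_
  · intro y hy
    exact ⟨g y hy, by rw [hg y hy]; exact hy.2, rfl⟩
  · intro y y' hy hy' e
    rw [← hg y hy, ← hg y' hy', D.match_iff hm]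
    exact e
  · rintro z ⟨k, hk, rfl⟩
    exact ⟨k • x, ⟨⟨k, rfl⟩, hk⟩, (D.match_iff hm _ _).1 (hg _ ⟨⟨k, rfl⟩, hk⟩)⟩

lemma img_invariant {x y : Ω} {p : Fin 1782} {k : stabilizer P a} (hk : k • y = y) :
    ∀ z ∈ D.img x p (Edge P a b y), (D.ι k : G) • z ∈ D.img x p (Edge P a b y) := by
  rintro z ⟨g, hg, rfl⟩
  refine ⟨k * g, ?_, by rw [map_mul, Subgroup.coe_mul, mul_smul]⟩
  rw [mul_smul]
  conv in Edge P a b y => rw [← hk]
  exact edge_smul.2 hg

lemma match_b : D.Match b pt915 := D.stab_b

lemma img_near {Q : Ω → Prop} {z : Fin 1782} (hz : z ∈ D.img b pt915 Q) :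
    bget rowZero z.1 = true := by
  obtain ⟨g, -, rfl⟩ := hz
  show (D.ι g : G) • pt915 ∈ rowSet rowZero
  rw [← orbit_915]
  exact ⟨D.ι g, rfl⟩

lemma img_inv_of_group {x y : Ω} {p : Fin 1782} {X : Subgroup G} (hX : X ≤ H0)
    (hy : ∀ g : stabilizer P a, (D.ι g : G) ∈ X → g • y = y) :
    ∀ h ∈ X, ∀ z ∈ D.img x p (Edge P a b y), h • z ∈ D.img x p (Edge P a b y) := by
  intro h hh z hz
  obtain ⟨k, hk⟩ := D.ι.surjective ⟨h, hX hh⟩
  have hk' : (D.ι k : G) = h := congrArg Subtype.val hk
  rw [← hk']
  exact D.img_invariant (hy k (hk'.symm ▸ hh)) z hz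

/-! ### The parameters -/

open Classical in
/-- The number of common neighbours. -/
noncomputable def common (D : Setup P a b c) (x : Ω) : ℕ := (D.nb x ∩ D.nb a).card

lemma ncard_img_near (y : Ω) : (D.img b pt915 (Edge P a b y)).ncard = D.common y := by
  classical
  rw [D.ncard_img D.match_b, common, ← Set.ncard_coe_finset]
  congr 1
  ext z
  simp only [Finset.coe_inter, Set.mem_inter_iff, Finset.mem_coe, mem_nb, Set.mem_setOf_eq,
    D.edge_base]
  exact and_comm

lemma common_smul (g : stabilizer P a) (x : Ω) : D.common (g • x) = D.common x := by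
  classical
  unfold common
  rw [← Finset.card_image_of_injective (D.nb x ∩ D.nb a) (MulAction.injective (g : P))]
  congr 1
  rw [Finset.image_inter _ _ (MulAction.injective (g : P)), ← D.nb_smul, ← D.nb_smul,
    show (g : P) • a = a from g.2]
  rfl

lemma common_b_cases : D.common b = 0 ∨ D.common b = 100 ∨ D.common b = 315 ∨ D.common b = 415 := by
  rw [← D.ncard_img_near b]
  refine (j_classes (D.img_inv_of_group (X := J0) inf_le_left fun g hg => (D.stab_b g).2 hg.2)
    (fun z hz => D.img_near hz) ?_).1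
  rintro ⟨g, hg, e⟩
  rw [(D.stab_b g).2 e] at hg
  exact D.edge_irrefl b hg

open Classical in
/-- The non-neighbours of the base point. -/
noncomputable def far (_D : Setup P a b c) : Finset Ω :=
  Finset.univ.filter fun y => y ∈ orbit (stabilizer P a) c

lemma mem_far {y : Ω} : y ∈ D.far ↔ y ∈ orbit (stabilizer P a) c := by simp [far]

lemma card_far : D.far.card = 1365 := by
  classical
  rw [← D.orb_c, ← Set.ncard_coe_finset]
  congr 1
  ext y
  simp [far]

lemma not_edge_far {y : Ω} (h : y ∈ orbit (stabilizer P a) c) : ¬ Edge P a b y a ∧ y ≠ a := by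
  refine ⟨fun h' => Set.disjoint_left.1 D.disjoint_NM (D.edge_base.1 (D.edge_symm h')) h, ?_⟩
  rintro rfl
  exact D.not_mem_self D.orb_c (by norm_num) h

lemma split_nb (x : Ω) :
    (D.nb x ∩ {a}).card + D.common x + (D.nb x ∩ D.far).card = 416 := by
  classical
  rw [common, ← D.card_nb x, ← Finset.card_union_of_disjoint, ← Finset.card_union_of_disjoint]
  · congr 1
    ext y
    simp only [Finset.mem_union, Finset.mem_inter, Finset.mem_singleton, mem_nb, mem_far,
      D.edge_base]
    have := D.cases y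
    tauto
  · simp only [Finset.disjoint_left, Finset.mem_union, Finset.mem_inter, mem_nb, mem_far,
      Finset.mem_singleton, D.edge_base]
    intro y hy hy'
    have h1 := Set.disjoint_left.1 D.disjoint_NM
    have h2 := (D.not_edge_far hy'.2).2
    rcases hy with ⟨-, e⟩ | ⟨-, e⟩
    · exact h2 e
    · exact h1 e hy'.2
  · simp only [Finset.disjoint_left, Finset.mem_inter, mem_nb, Finset.mem_singleton]
    rintro y ⟨-, rfl⟩ ⟨-, hy⟩
    exact D.edge_irrefl _ hy

lemma count : 1365 * D.common c = 416 * (415 - D.common b) := by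
  classical
  have hd := Finset.sum_card_bipartiteAbove_eq_sum_card_bipartiteBelow (r := Edge P a b)
    (s := D.far) (t := D.nb a)
  have h1 : ∀ x ∈ D.far, ((D.nb a).bipartiteAbove (Edge P a b) x).card = D.common c := by
    intro x hx
    obtain ⟨g, rfl⟩ := D.mem_far.1 hx
    rw [← D.common_smul g c, common]
    congr 1
    ext y
    simp [Finset.bipartiteAbove, mem_nb, and_comm]
  have h2 : ∀ y ∈ D.nb a,
      (D.far.bipartiteBelow (Edge P a b) y).card = 415 - D.common b := by
    intro y hy
    have hya := D.mem_nb.1 hy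
    obtain ⟨g, rfl⟩ := D.edge_base.1 hya
    have e : D.far.bipartiteBelow (Edge P a b) (g • b) = D.nb (g • b) ∩ D.far := by
      ext z
      simp only [Finset.bipartiteBelow, Finset.mem_filter, Finset.mem_inter, mem_nb]
      exact ⟨fun h => ⟨D.edge_symm h.2, h.1⟩, fun h => ⟨h.2, D.edge_symm h.1⟩⟩
    have hs := D.split_nb (g • b)
    rw [D.common_smul, Finset.inter_singleton_of_mem (D.mem_nb.2 (D.edge_symm hya)),
      Finset.card_singleton] at hs
    rw [e]
    omega
  rw [Finset.sum_congr rfl h1, Finset.sum_congr rfl h2, Finset.sum_const, Finset.sum_const,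
    D.card_far, D.card_nb, smul_eq_mul, smul_eq_mul] at hd
  exact hd

lemma params : D.common b = 100 ∧ D.common c = 96 := by
  classical
  have hcount := D.count
  suffices h : D.common b ≠ 415 by
    rcases D.common_b_cases with e | e | e | e
    · rw [e] at hcount; omega
    · exact ⟨e, by rw [e] at hcount; omega⟩
    · rw [e] at hcount; omega
    · exact absurd e h
  intro h415
  -- the closed neighbourhoods would be blocks of 417 points
  set C : Ω → Finset Ω := fun x => insert x (D.nb x) with hC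
  have hcard : ∀ x, (C x).card = 417 := fun x => by
    simp only [hC]
    rw [Finset.card_insert_of_notMem (fun h => D.edge_irrefl _ (D.mem_nb.1 h)), D.card_nb]
  have hCs : ∀ (g : P) x, C (g • x) = (C x).image fun y => g • y := fun g x => by
    simp only [hC, D.nb_smul, Finset.image_insert]
  have hbase : ∀ y ∈ C a, C y = C a := by
    intro y hy
    rcases Finset.mem_insert.1 hy with rfl | hy
    · rfl
    refine Finset.eq_of_subset_of_card_le (fun z hz => ?_) (by rw [hcard, hcard])
    rcases Finset.mem_insert.1 hz with rfl | hz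
    · exact Finset.mem_insert_of_mem hy
    rcases D.cases z with rfl | e | e
    · exact Finset.mem_insert_self _ _
    · exact Finset.mem_insert_of_mem (D.mem_nb.2 (D.edge_base.2 e))
    · exfalso
      obtain ⟨g, rfl⟩ := D.edge_base.1 (D.mem_nb.1 hy)
      have hs := D.split_nb (g • b)
      rw [D.common_smul, h415,
        Finset.inter_singleton_of_mem (D.mem_nb.2 (D.edge_symm (D.mem_nb.1 hy))),
        Finset.card_singleton] at hs
      have : z ∈ D.nb (g • b) ∩ D.far := Finset.mem_inter.2 ⟨hz, D.mem_far.2 e⟩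
      rw [Finset.card_eq_zero.1 (by omega : (D.nb (g • b) ∩ D.far).card = 0)] at this
      exact absurd this (Finset.notMem_empty z)
  have hblock : ∀ x, ∀ y ∈ C x, C y = C x := by
    intro x y hy
    obtain ⟨g, rfl⟩ := D.trans a x
    rw [hCs, Finset.mem_image] at hy
    obtain ⟨z, hz, rfl⟩ := hy
    rw [hCs, hCs, hbase z hz]
  have hfib := Finset.card_eq_sum_card_fiberwise (f := C) (s := (Finset.univ : Finset Ω))
    (t := Finset.univ.image C) (fun x _ => Finset.mem_image_of_mem _ (Finset.mem_univ x))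
  rw [Finset.sum_congr rfl (g := fun _ => 417) (fun S hS => ?_), Finset.sum_const,
    Finset.card_univ, D.card_pts, smul_eq_mul] at hfib
  · omega
  · obtain ⟨x, -, rfl⟩ := Finset.mem_image.1 hS
    rw [← hcard x]
    congr 1
    ext y
    simp only [Finset.mem_filter, Finset.mem_univ, true_and]
    exact ⟨fun e => e ▸ Finset.mem_insert_self y (D.nb y), fun hy => hblock x y hy⟩

/-- The stabiliser of a non-neighbour is the one of the standard non-neighbour. -/
lemma match_c : D.Match c pt1 := by
  rcases D.stab_c with h | h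
  · exact h
  · exfalso
    refine line_classes (D.img_inv_of_group (X := LStab) inf_le_left fun g hg => (h g).2 hg.2)
      (fun z hz => D.img_near hz) ?_
    rw [D.ncard_img_near c]
    exact D.params.2

lemma img_far {Q : Ω → Prop} {z : Fin 1782} (hz : z ∈ D.img c pt1 Q) :
    bget rowZero z.1 = false ∧ z ≠ pt0 := by
  obtain ⟨g, -, rfl⟩ := hz
  have h0 : (D.ι g : G) • pt0 = pt0 := (D.ι g).2
  refine ⟨?_, fun e => ?_⟩
  · rw [Bool.eq_false_iff]
    intro hb
    have hb' : (D.ι g : G) • pt1 ∈ orbit H0 ptC := by rw [orbit_ptC_eq]; exact hb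
    have e1 := card_orbit_ptC
    rw [← orbit_eq_iff.2 hb', orbit_eq_iff.2 (show (D.ι g : G) • pt1 ∈ orbit H0 pt1 from ⟨D.ι g, rfl⟩),
      card_orbit_pt1] at e1
    omega
  · exact absurd (congrArg Fin.val (MulAction.injective _ (e.trans h0.symm))) (by decide)

lemma pair_le : pairP ≤ H0 := inf_le_left

lemma img_near_c (z : Fin 1782) : z ∈ D.img b pt915 (Edge P a b c) ↔
    bget rowZero z.1 = true ∧ bget rowOne z.1 = true :=
  p_classes_near (D.img_inv_of_group D.pair_le fun g hg => (D.match_c g).2 hg.2)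
    (fun _ hz => D.img_near hz) (by rw [D.ncard_img_near]; exact D.params.2) z

lemma img_far_c (z : Fin 1782) : z ∈ D.img c pt1 (Edge P a b c) ↔
    bget rowZero z.1 = false ∧ bget rowOne z.1 = true := by
  classical
  refine p_classes_far (D.img_inv_of_group D.pair_le fun g hg => (D.match_c g).2 hg.2)
    (fun z hz => ⟨(D.img_far hz).1, (D.img_far hz).2, ?_⟩) ?_ z
  · rintro rfl
    obtain ⟨g, hg, e⟩ := hz
    rw [(D.match_c g).2 e] at hg
    exact D.edge_irrefl c hg
  · have hs := D.split_nb c
    rw [D.params.2, Finset.inter_singleton_of_notMem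
      (fun h => (D.not_edge_far (mem_orbit_self c)).1 (D.mem_nb.1 h)), Finset.card_empty] at hs
    rw [D.ncard_img D.match_c, ← show (D.nb c ∩ D.far).card = 320 by omega, ← Set.ncard_coe_finset]
    congr 1
    ext y
    simp [mem_nb, mem_far, and_comm]

lemma img_near_b (z : Fin 1782) : z ∈ D.img b pt915 (Edge P a b b) ↔
    bget rowZero z.1 = true ∧ bget row915 z.1 = true := by
  refine (j_classes (D.img_inv_of_group (X := J0) inf_le_left fun g hg => (D.stab_b g).2 hg.2)
    (fun z hz => D.img_near hz) ?_).2 (by rw [D.ncard_img_near]; exact D.params.1) z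
  rintro ⟨g, hg, e⟩
  rw [(D.stab_b g).2 e] at hg
  exact D.edge_irrefl b hg

/-! ### The map -/

open Classical in
/-- The point of the standard graph. -/
noncomputable def fn (D : Setup P a b c) (y : Ω) : Fin 1782 :=
  if y = a then pt0
  else if h : y ∈ orbit (stabilizer P a) b then (D.ι h.choose : G) • pt915
  else if h : y ∈ orbit (stabilizer P a) c then (D.ι h.choose : G) • pt1
  else pt0

lemma fn_a : D.fn a = pt0 := by simp [fn]

lemma fn_b (g : stabilizer P a) : D.fn (g • b) = (D.ι g : G) • pt915 := by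
  classical
  have hmem : g • b ∈ orbit (stabilizer P a) b := ⟨g, rfl⟩
  have hne : g • b ≠ a := fun e => D.not_mem_self D.orb_b (by norm_num) (by rw [e] at hmem; exact hmem)
  rw [fn, if_neg hne, dif_pos hmem]
  exact (D.match_iff D.match_b _ _).1 hmem.choose_spec

lemma fn_c (g : stabilizer P a) : D.fn (g • c) = (D.ι g : G) • pt1 := by
  classical
  have hmem : g • c ∈ orbit (stabilizer P a) c := ⟨g, rfl⟩
  rw [fn, if_neg (D.not_edge_far hmem).2,
    dif_neg (fun h => Set.disjoint_left.1 D.disjoint_NM h hmem), dif_pos hmem]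
  exact (D.match_iff D.match_c _ _).1 hmem.choose_spec

lemma fn_smul (g : stabilizer P a) (y : Ω) : D.fn (g • y) = (D.ι g : G) • D.fn y := by
  rcases D.cases y with rfl | ⟨k, rfl⟩ | ⟨k, rfl⟩
  · rw [show g • y = y from g.2, D.fn_a]
    exact ((D.ι g).2 : (D.ι g : G) • pt0 = pt0).symm
  · simp only []
    rw [← mul_smul, D.fn_b, D.fn_b, map_mul, Subgroup.coe_mul, mul_smul]
  · simp only []
    rw [← mul_smul, D.fn_c, D.fn_c, map_mul, Subgroup.coe_mul, mul_smul]

lemma far_val (g : stabilizer P a) :
    bget rowZero ((D.ι g : G) • pt1).1 = false ∧ (D.ι g : G) • pt1 ≠ pt0 :=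
  D.img_far (Q := fun _ => True) ⟨g, trivial, rfl⟩

lemma near_val (g : stabilizer P a) : bget rowZero ((D.ι g : G) • pt915).1 = true :=
  D.img_near (Q := fun _ => True) ⟨g, trivial, rfl⟩

lemma rel_zero (z : Fin 1782) : Rel pt0 z ↔ bget rowZero z.1 = true := by
  rw [rel_pt0, orbit_ptC_eq]; rfl

lemma fn_rel_a (y : Ω) : Edge P a b a y ↔ Rel pt0 (D.fn y) := by
  rw [D.edge_base, D.rel_zero]
  rcases D.cases y with rfl | ⟨k, rfl⟩ | ⟨k, rfl⟩
  · rw [D.fn_a]
    exact iff_of_false (D.not_mem_self D.orb_b (by norm_num)) (by decide +kernel)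
  · simp only []
    rw [D.fn_b]; exact iff_of_true ⟨k, rfl⟩ (D.near_val k)
  · simp only []
    rw [D.fn_c]
    exact iff_of_false (fun h => Set.disjoint_left.1 D.disjoint_NM h ⟨k, rfl⟩)
      (by rw [(D.far_val k).1]; simp)

lemma fn_rel_c (y : Ω) : Edge P a b c y ↔ Rel pt1 (D.fn y) := by
  rw [row1_facts]
  rcases D.cases y with rfl | ⟨k, rfl⟩ | ⟨k, rfl⟩
  · rw [D.fn_a]
    exact iff_of_false (D.not_edge_far (mem_orbit_self c)).1 (by decide +kernel)
  · simp only []
    rw [D.fn_b]
    refine Iff.trans ⟨fun h => ⟨k, h, rfl⟩, ?_⟩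
      ((D.img_near_c _).trans (and_iff_right (D.near_val k)))
    rintro ⟨g, hg, e⟩
    rwa [← (D.match_iff D.match_b g k).2 e]
  · simp only []
    rw [D.fn_c]
    refine Iff.trans ⟨fun h => ⟨k, h, rfl⟩, ?_⟩
      ((D.img_far_c _).trans (and_iff_right (D.far_val k).1))
    rintro ⟨g, hg, e⟩
    rwa [← (D.match_iff D.match_c g k).2 e]

lemma edge_symm_iff (x y : Ω) : Edge P a b x y ↔ Edge P a b y x := ⟨D.edge_symm, D.edge_symm⟩

lemma fn_rel_b (y : Ω) : Edge P a b b y ↔ Rel pt915 (D.fn y) := by
  rcases D.cases y with rfl | ⟨k, rfl⟩ | ⟨k, rfl⟩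
  · rw [D.fn_a]
    exact iff_of_true (D.edge_symm (D.edge_base.2 (mem_orbit_self b))) row915_facts.2
  · simp only []
    rw [D.fn_b, row915_facts.1]
    refine Iff.trans ⟨fun h => ⟨k, h, rfl⟩, ?_⟩
      ((D.img_near_b _).trans (and_iff_right (D.near_val k)))
    rintro ⟨g, hg, e⟩
    rwa [← (D.match_iff D.match_b g k).2 e]
  · simp only []
    have h1 : Edge P a b b (k • c) ↔ Edge P a b c (k⁻¹ • b) := by
      rw [D.edge_symm_iff, ← edge_smul (g := ((k⁻¹ : stabilizer P a) : P))]
      show Edge P a b (k⁻¹ • k • c) (k⁻¹ • b) ↔ _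
      rw [inv_smul_smul]
    rw [h1, D.fn_rel_c, D.fn_b, D.fn_c, ← rel_smul (D.ι k : G), map_inv, Subgroup.coe_inv,
      smul_inv_smul]
    exact ⟨rel_symm, rel_symm⟩

/-- The map is an isomorphism of graphs. -/
theorem fn_rel (x y : Ω) : Edge P a b x y ↔ Rel (D.fn x) (D.fn y) := by
  have key : ∀ (g : stabilizer P a) (x0 : Ω),
      (∀ z, Edge P a b x0 z ↔ Rel (D.fn x0) (D.fn z)) →
      (Edge P a b (g • x0) y ↔ Rel (D.fn (g • x0)) (D.fn y)) := by
    intro g x0 h
    obtain ⟨z, rfl⟩ : ∃ z, g • z = y := ⟨g⁻¹ • y, smul_inv_smul g y⟩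
    rw [D.fn_smul, D.fn_smul, rel_smul, ← h z]
    exact edge_smul
  rcases D.cases x with rfl | ⟨g, rfl⟩ | ⟨g, rfl⟩
  · rw [D.fn_a]; exact D.fn_rel_a y
  · refine key g b fun z => ?_
    rw [show D.fn b = pt915 by
      have := D.fn_b 1
      rwa [one_smul, map_one, Subgroup.coe_one, one_smul] at this]
    exact D.fn_rel_b z
  · refine key g c fun z => ?_
    rw [show D.fn c = pt1 by
      have := D.fn_c 1
      rwa [one_smul, map_one, Subgroup.coe_one, one_smul] at this]
    exact D.fn_rel_c z

theorem fn_injective : Function.Injective D.fn := by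
  intro x y h
  rcases D.cases x with rfl | ⟨g, rfl⟩ | ⟨g, rfl⟩ <;> rcases D.cases y with hy | ⟨k, rfl⟩ | ⟨k, rfl⟩
  · exact hy.symm
  · simp only [] at h
    rw [D.fn_a, D.fn_b] at h
    have := D.near_val k
    rw [← h] at this
    exact absurd this (by decide +kernel)
  · simp only [] at h
    rw [D.fn_a, D.fn_c] at h
    exact absurd h.symm (D.far_val k).2
  · subst hy
    simp only [] at h
    rw [D.fn_a, D.fn_b] at h
    have := D.near_val g
    rw [h] at this
    exact absurd this (by decide +kernel)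
  · simp only [] at h ⊢
    rw [D.fn_b, D.fn_b] at h
    exact (D.match_iff D.match_b g k).2 h
  · simp only [] at h
    rw [D.fn_b, D.fn_c] at h
    have := D.near_val g
    rw [h, (D.far_val k).1] at this
    exact absurd this (by simp)
  · subst hy
    simp only [] at h
    rw [D.fn_a, D.fn_c] at h
    exact absurd h (D.far_val g).2
  · simp only [] at h
    rw [D.fn_c, D.fn_b] at h
    have := D.near_val k
    rw [← h, (D.far_val g).1] at this
    exact absurd this (by simp)
  · simp only [] at h ⊢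
    rw [D.fn_c, D.fn_c] at h
    exact (D.match_iff D.match_c g k).2 h

/-- An isomorphism onto the standard graph. -/
theorem exists_equiv : ∃ Φ : Ω ≃ Fin 1782, ∀ x y, Rel (Φ x) (Φ y) ↔ Edge P a b x y :=
  ⟨Equiv.ofBijective D.fn ((Fintype.bijective_iff_injective_and_card D.fn).2
    ⟨D.fn_injective, by rw [D.card_pts, Fintype.card_fin]⟩), fun x y => (D.fn_rel x y).symm⟩

end Setup

end Cfsg.Agent.Golay.SuzRankThree
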