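import Cfsg.Agent.Golay.SuzRankThree.Witness

/-!
The subgroups of index 416 of a point stabiliser are the stabilisers of neighbours.
-/

set_option autoImplicit false
set_option Elab.async false
set_option linter.style.haveILetI false

namespace Cfsg.Agent.Golay.SuzRankThree

open MulAction Cfsg.Agent.H45 Cfsg.Agent.H32.OutSuz
open scoped Pointwise

/-- The standard neighbour. -/
def pt915 : Fin 1782 := ⟨915, by norm_num⟩

/-- Its stabiliser in the point stabiliser. -/
noncomputable def J0 : Subgroup G := H0 ⊓ stabilizer G pt915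

theorem pt915_ok : (bget rowZero 915 && allB 5 fun l => Nat.beq (cget (colL l) 915) 915 &&
    Nat.beq (cget (colL l) 0) 0) = true := by
  decide +kernel

lemma orbit_915 : orbit H0 pt915 = rowSet rowZero := by
  have h : pt915 ∈ orbit H0 ptC := by
    rw [orbit_ptC_eq]
    exact (Bool.and_eq_true_iff.1 pt915_ok).1
  rw [orbit_eq_iff.2 h, orbit_ptC_eq]

lemma card_J0 : Nat.card J0 = 604800 := by
  have h1 := (stabilizer H0 pt915).card_mul_index
  rw [index_stabilizer, orbit_915, ← orbit_ptC_eq, card_orbit_ptC, card_stab0] at h1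
  have h2 : Nat.card (stabilizer H0 pt915) = Nat.card J0 :=
    Nat.card_congr ⟨fun x => ⟨x.1.1, x.1.2, x.2⟩, fun x => ⟨⟨x.1, x.2.1⟩, x.2.2⟩,
      fun _ => rfl, fun _ => rfl⟩
  rw [h2] at h1
  exact Nat.eq_of_mul_eq_mul_right (show 0 < 416 by norm_num)
    (h1.trans (by norm_num : (251596800 : ℕ) = 604800 * 416))

lemma ev_mem_J0 {l : ℕ} (hl : l < 5) : ev l ∈ J0 := by
  refine ⟨ev_mem (by omega), ?_⟩
  have h := allB_spec (Bool.and_eq_true_iff.1 pt915_ok).2 l hl
  rw [Bool.and_eq_true] at h
  exact Fin.ext ((rep_gen (show l < 7 by omega) pt915).trans (Nat.eq_of_beq_eq_true h.1))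

lemma chainCheck_drop {L n : ℕ} {cols : List ℕ} : ∀ {lvs : List Lvl} (k : ℕ),
    chainCheck L n cols lvs = true → chainCheck L n cols (lvs.drop k) = true
  | _, 0, h => by rwa [List.drop_zero]
  | [], _ + 1, _ => by simp [chainCheck]
  | lv :: rest, k + 1, h => by
    simp only [chainCheck, Bool.and_eq_true] at h
    rw [List.drop_succ_cons]
    exact chainCheck_drop k h.2

theorem tail_ok : (Nat.beq (chainProd (SuzExtra.chain.drop 2)) 604800 &&
    (SuzExtra.chain.drop 2).all fun lv => lv.gens.all fun g => g.all fun l => Nat.blt l 5) = true := by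
  decide +kernel

lemma closure_eq_J0 : Subgroup.closure {g : G | ∃ l < 5, ev l = g} = J0 := by
  refine Subgroup.eq_of_le_of_card_ge ((Subgroup.closure_le _).2 ?_) ?_
  · rintro _ ⟨l, hl, rfl⟩; exact ev_mem_J0 hl
  · have h := tail_ok
    simp only [Bool.and_eq_true, List.all_eq_true, Nat.blt_eq] at h
    rw [card_J0, ← Nat.eq_of_beq_eq_true h.1, ← Subgroup.card_map_of_injective phi_inj]
    have hc := chainCheck_drop 2 SuzExtra.chain_ok
    refine chainCheck_sound (permCheck_PT SuzMain.perm_ok) hc _ fun lv hlv w hw => ?_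
    exact ⟨wd w, wd_mem_of fun l hl => Subgroup.subset_closure ⟨l, h.2 lv hlv w hw l hl, rfl⟩,
      phi_act.evalW w (chainCheck_letters hc lv hlv w hw)⟩

/-- A conjugate of the standard stabiliser. -/
noncomputable def J0conj (h : G) : Subgroup G := J0.map (MulAut.conj h).toMonoidHom

lemma card_J0conj (h : G) : Nat.card (J0conj h) = 604800 := by
  rw [J0conj, Subgroup.card_map_of_injective (f := (MulAut.conj h).toMonoidHom)
    (MulEquiv.injective _), card_J0]

lemma rev_wd : ∀ w : List ℕ, wd w.reverse = (wd w)⁻¹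
  | [] => by show (1 : G) = (1 : G)⁻¹; rw [inv_one]
  | l :: w => by
    unfold wd
    rw [List.reverse_cons, evalW_append, show evalW ev [l] = ev l from List.prod_singleton,
      evalW_cons, mul_inv_rev, ev_inv]
    exact congrArg (· * ev l) (rev_wd w)

lemma of_targets {X : Subgroup G} (hc : Nat.card X = 604800) {moved : Bool}
    (ht : ∀ l < 5, wd (target moved l) ∈ X) : ∃ h ∈ H0, X = J0conj h := by
  set u : List ℕ := bif moved then moveW else [] with hu
  have hu6 : u.all (fun l => decide (l < 6)) = true := by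
    have h := sylow_ok
    simp only [Bool.and_eq_true] at h
    rw [hu]; cases moved
    · rfl
    · exact h.1.2
  refine ⟨wd u, wd_mem hu6, (Subgroup.eq_of_le_of_card_ge ?_ ?_).symm⟩
  · rw [J0conj, ← closure_eq_J0, MonoidHom.map_closure, Subgroup.closure_le]
    rintro _ ⟨_, ⟨l, hl, rfl⟩, rfl⟩
    show wd u * ev l * (wd u)⁻¹ ∈ X
    have e : wd u * ev l * (wd u)⁻¹ = wd (target moved l) := by
      rw [hu]; cases moved
      · show (1 : G) * ev l * (1 : G)⁻¹ = wd [l]
        rw [one_mul, inv_one, mul_one]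
        exact List.prod_singleton.symm
      · simp only [target, cond_true]
        rw [← rev_wd, wd, wd, wd, evalW_append, evalW_cons, mul_assoc]
    rw [e]; exact ht l hl
  · rw [hc, card_J0conj]

/-- Every subgroup of order 604800 is the stabiliser of a neighbour. -/
theorem index416 {X : Subgroup G} (hX : X ≤ H0) (hc : Nat.card X = 604800) :
    ∃ h ∈ H0, X = J0conj h := by
  classical
  haveI : Fact (Nat.Prime 3) := ⟨by norm_num⟩
  obtain ⟨R⟩ : Nonempty (Sylow 3 X) := inferInstance
  have hfac : ∀ m, ¬ 3 ∣ m → (27 * m).factorization 3 = 3 := by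
    intro m hm
    have hm0 : m ≠ 0 := by rintro rfl; exact hm (dvd_zero 3)
    rw [Nat.factorization_mul (by norm_num) hm0, Finsupp.add_apply,
      show (27 : ℕ) = 3 ^ 3 by norm_num, Nat.factorization_pow, Finsupp.smul_apply,
      Nat.Prime.factorization_self (by norm_num), Nat.factorization_eq_zero_of_not_dvd hm]
    rfl
  have hR : Nat.card R = 27 := by
    rw [Sylow.card_eq_multiplicity, hc, show (604800 : ℕ) = 27 * 22400 by norm_num,
      hfac _ (by norm_num)]
    rfl
  set R' : Subgroup H0 := (R.1.map X.subtype).subgroupOf H0 with hR'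
  have hRle : R.1.map X.subtype ≤ H0 := (Subgroup.map_subtype_le _).trans hX
  have hcR' : Nat.card R' = 27 := by
    rw [hR', Nat.card_congr (Subgroup.subgroupOfEquivOfLe hRle).toEquiv,
      Subgroup.card_map_of_injective X.subtype_injective]
    exact hR
  set S' : Subgroup H0 := sylT.subgroupOf H0 with hS'
  have hcS' : Nat.card S' = 27 := by
    rw [hS', Nat.card_congr (Subgroup.subgroupOfEquivOfLe sylT_le).toEquiv, card_sylT]
  have hsyl : ∀ U : Subgroup H0, Nat.card U = 27 →
      Nat.card U = 3 ^ (Nat.card H0).factorization 3 := fun U hU => by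
    rw [hU, card_stab0, show (251596800 : ℕ) = 27 * 9318400 by norm_num, hfac _ (by norm_num)]
    rfl
  obtain ⟨h, hh⟩ := MulAction.exists_smul_eq H0 (Sylow.ofCard R' (hsyl _ hcR'))
    (Sylow.ofCard S' (hsyl _ hcS'))
  set X' : Subgroup G := X.map (MulAut.conj (h : G)).toMonoidHom with hX'def
  have hX' : X' ≤ H0 := by
    rintro _ ⟨x, hx, rfl⟩
    exact mul_mem (mul_mem h.2 (hX hx)) (inv_mem h.2)
  have hc' : Nat.card X' = 604800 := by
    rw [hX'def, Subgroup.card_map_of_injective (f := (MulAut.conj (h : G)).toMonoidHom)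
      (MulEquiv.injective _), hc]
  have hsub : sylT ≤ X' := by
    intro g hg
    have hg' : (⟨g, sylT_le hg⟩ : H0) ∈
        (h • Sylow.ofCard R' (hsyl _ hcR') : Sylow 3 H0).1 := by
      rw [hh]; exact hg
    rw [Sylow.coe_subgroup_smul] at hg'
    obtain ⟨r, hr, e⟩ := hg'
    have hrX : (r : G) ∈ X := Subgroup.map_subtype_le _ hr
    refine ⟨r, hrX, ?_⟩
    exact congrArg Subtype.val e
  obtain ⟨moved, ht⟩ := exists_targets hX' hc'
    (hsub (Subgroup.subset_closure (by simp))) (hsub (Subgroup.subset_closure (by simp)))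
  obtain ⟨k, hk, e⟩ := of_targets hc' ht
  refine ⟨(h : G)⁻¹ * k, mul_mem (inv_mem h.2) hk, ?_⟩
  refine (Subgroup.eq_of_le_of_card_ge ?_ (by rw [hc, card_J0conj])).symm
  rintro _ ⟨j, hj, rfl⟩
  have hjX : (h : G) * ((MulAut.conj ((h : G)⁻¹ * k)).toMonoidHom j) * (h : G)⁻¹ ∈ X' := by
    rw [e]
    exact ⟨j, hj, by simp only [MulEquiv.coe_toMonoidHom, MulAut.conj_apply]; group⟩
  obtain ⟨x, hx, ex⟩ := hjX
  have : x = (MulAut.conj ((h : G)⁻¹ * k)).toMonoidHom j :=
    mul_left_cancel (mul_right_cancel ex)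
  exact this ▸ hx

end Cfsg.Agent.Golay.SuzRankThree
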