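import Cfsg.Agent.Golay.SuzRankThree.Graph
import Cfsg.Agent.H32.OutSuz.Bound
import Cfsg.Agent.H59.SuzG2
import Cfsg.Prelude.Def_Spor_Suz

/-!
The Suzuki group is the only rank three group of degree 1782 with point stabiliser G2(4) and
suborbits of lengths 416 and 1365.
-/

set_option autoImplicit false
set_option Elab.async false
set_option linter.style.haveILetI false
set_option linter.unusedSectionVars false

namespace Cfsg.Agent.Golay.SuzRankThree

open MulAction Cfsg.Agent.H45 Cfsg.Agent.H32.OutSuz
open scoped Pointwise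

/-! ### Change of field -/

lemma xMat_map (D : Cfsg.Lie.ChevalleyDatum) {K F : Type} [Field K] [Field F] (σ : K ≃+* F)
    (r : Fin D.nroots) (t : K) :
    (D.xMat K r t).map σ = D.xMat F r (σ t) := by
  ext row col
  simp only [Cfsg.Lie.ChevalleyDatum.xMat, Matrix.map_apply, Matrix.of_apply]
  rcases col with i | s
  · rcases row with i' | u <;> simp only [] <;>
      split_ifs <;> simp
  · rcases row with i' | u <;> simp only [] <;>
      split_ifs <;> simp [map_list_sum, List.map_map, Function.comp_def]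

lemma nonempty_group_congr (D : Cfsg.Lie.ChevalleyDatum) {K F : Type} [Field K] [Field F]
    (σ : K ≃+* F) : Nonempty (D.group K ≃* D.group F) := by
  let φ : GL D.Idx K →* GL D.Idx F := Matrix.GeneralLinearGroup.map σ.toRingHom
  have hval : ∀ g : GL D.Idx K, (φ g : Matrix D.Idx D.Idx F) =
      (g : Matrix D.Idx D.Idx K).map σ := fun g => rfl
  have hinj : Function.Injective φ := by
    intro g h e
    refine Units.ext ?_
    have e' := congrArg (fun x : GL D.Idx F => (x : Matrix D.Idx D.Idx F)) e
    simp only [hval] at e'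
    exact Matrix.map_injective σ.injective e'
  have himg : (D.group K).map φ = D.group F := by
    rw [Cfsg.Lie.ChevalleyDatum.group, MonoidHom.map_closure, Cfsg.Lie.ChevalleyDatum.group]
    congr 1
    ext x
    constructor
    · rintro ⟨g, ⟨r, t, hg⟩, rfl⟩
      exact ⟨r, σ t, by rw [hval, hg, xMat_map]⟩
    · rintro ⟨r, t, hx⟩
      let g : GL D.Idx K := Matrix.GeneralLinearGroup.map σ.symm.toRingHom x
      have hg : (g : Matrix D.Idx D.Idx K) = (x : Matrix D.Idx D.Idx F).map σ.symm := rfl
      refine ⟨g, ⟨r, σ.symm t, ?_⟩, ?_⟩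
      · rw [hg, hx, xMat_map]
      · refine Units.ext ?_
        rw [hval, hg, Matrix.map_map]
        ext i j
        simp
  exact ⟨((D.group K).equivMapOfInjective φ hinj).trans (MulEquiv.subgroupCongr himg)⟩

/-- The stabiliser of the standard point. -/
theorem nonempty_stab_equiv {K : Type} [Field K] [Fintype K] (hK : Fintype.card K = 4) :
    Nonempty (Cfsg.Lie.chevG2.group K ≃* H0) := by
  obtain ⟨e⟩ := H59.SuzG2.exists_equiv
  obtain ⟨f⟩ := nonempty_group_congr Cfsg.Lie.chevG2
    (FiniteField.ringEquivOfCardEq (K := K) (K' := H59.HeSp4.F4)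
      (hK.trans H59.HeSp4.card_F4.symm))
  exact ⟨(f.trans e.symm).trans (MulEquiv.subgroupCongr stab0_eq.symm)⟩

/-! ### Matching the stabilisers -/

section

variable {Ω : Type*} [Fintype Ω] [DecidableEq Ω] {P : Type*} [Group P] [MulAction P Ω]
  {a x : Ω} (ι : stabilizer P a ≃* H0)

/-- The image of the stabiliser of a point. -/
noncomputable def stabImg (x : Ω) : Subgroup G :=
  ((stabilizer (stabilizer P a) x).map ι.toMonoidHom).map H0.subtype

lemma mem_stabImg (g : stabilizer P a) : (ι g : G) ∈ stabImg ι x ↔ g • x = x := by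
  constructor
  · rintro ⟨_, ⟨k, hk, rfl⟩, e⟩
    have : k = g := ι.injective (Subtype.ext e)
    exact this ▸ hk
  · intro h; exact ⟨ι g, ⟨g, h, rfl⟩, rfl⟩

lemma stabImg_le : stabImg ι x ≤ H0 := Subgroup.map_subtype_le _

lemma card_stabImg {n : ℕ} (hn : (orbit (stabilizer P a) x).ncard = n) :
    Nat.card (stabImg ι x) * n = 251596800 := by
  rw [stabImg, Subgroup.card_map_of_injective H0.subtype_injective,
    Subgroup.card_map_of_injective (f := ι.toMonoidHom) ι.injective, ← hn, ← index_stabilizer,
    Subgroup.card_mul_index, Nat.card_congr ι.toEquiv, card_stab0]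

lemma mem_stabImg_smul (k g : stabilizer P a) :
    g • (k • x) = k • x ↔ (ι k : G)⁻¹ * (ι g : G) * (ι k : G) ∈ stabImg ι x := by
  rw [← Subgroup.coe_inv, ← Subgroup.coe_mul, ← Subgroup.coe_mul, ← map_inv, ← map_mul, ← map_mul,
    mem_stabImg, mul_smul, mul_smul, inv_smul_eq_iff]

end

section

variable {Ω : Type*} [Fintype Ω] [DecidableEq Ω] {P : Type*} [Group P] [MulAction P Ω]

/-- The hypothesis gives a setup after moving the two points inside their suborbits. -/
theorem exists_setup {a b c : Ω} (hcard : Fintype.card Ω = 1782)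
    (htrans : ∀ x y : Ω, ∃ g : P, g • x = y) (ι : stabilizer P a ≃* H0)
    (hb : (orbit (stabilizer P a) b).ncard = 416) (hc : (orbit (stabilizer P a) c).ncard = 1365) :
    ∃ b' c', Nonempty (Setup P a b' c') := by
  have hXb : Nat.card (stabImg ι b) = 604800 :=
    Nat.eq_of_mul_eq_mul_right (show 0 < 416 by norm_num) ((card_stabImg ι hb).trans (by norm_num))
  have hXc : Nat.card (stabImg ι c) = 184320 :=
    Nat.eq_of_mul_eq_mul_right (show 0 < 1365 by norm_num) ((card_stabImg ι hc).trans (by norm_num))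
  obtain ⟨h, hh, hbX⟩ := index416 (stabImg_le ι) hXb
  obtain ⟨kb, hkb⟩ := ι.surjective ⟨h⁻¹, inv_mem hh⟩
  obtain ⟨h', hh', hcX⟩ := index1365 (stabImg_le ι) hXc
  obtain ⟨kc, hkc⟩ := ι.surjective ⟨h', hh'⟩
  refine ⟨kb • b, kc • c, ⟨{
    card_pts := hcard
    trans := htrans
    ι := ι
    orb_b := by rw [orbit_smul, hb]
    orb_c := by rw [orbit_smul, hc]
    stab_b := fun g => ?_
    stab_c := ?_ }⟩⟩
  · rw [mem_stabImg_smul, hbX, show (ι kb : G) = h⁻¹ from congrArg Subtype.val hkb, inv_inv]
    constructor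
    · rintro ⟨j, hj, e⟩
      simp only [MulEquiv.coe_toMonoidHom, MulAut.conj_apply] at e
      have : j = (ι g : G) := mul_left_cancel (mul_right_cancel e)
      exact this ▸ hj.2
    · intro hfix
      exact ⟨(ι g : G), ⟨(ι g).2, hfix⟩, rfl⟩
  · have hiff : ∀ (Y : Subgroup G),
        (stabImg ι c).map (MulAut.conj h').toMonoidHom = Y → ∀ g : stabilizer P a,
          g • (kc • c) = kc • c ↔ (ι g : G) ∈ Y := by
      intro Y hY g
      rw [mem_stabImg_smul, show (ι kc : G) = h' from congrArg Subtype.val hkc, ← hY]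
      constructor
      · intro hm
        refine ⟨_, hm, ?_⟩
        simp only [MulEquiv.coe_toMonoidHom, MulAut.conj_apply]
        group
      · rintro ⟨x, hx, e⟩
        simp only [MulEquiv.coe_toMonoidHom, MulAut.conj_apply] at e
        rw [← e, show h'⁻¹ * (h' * x * h'⁻¹) * h' = x by group]
        exact hx
    rcases hcX with e | e
    · exact Or.inl fun g => (hiff _ e g).trans ⟨fun m => m.2, fun m => ⟨(ι g).2, m⟩⟩
    · exact Or.inr fun g => (hiff _ e g).trans ⟨fun m => m.2, fun m => ⟨(ι g).2, m⟩⟩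

end

/-- Uniqueness. -/
theorem isoSuz {Ω : Type*} [Fintype Ω] [DecidableEq Ω] (hΩ : Fintype.card Ω = 1782)
    (P : Subgroup (Equiv.Perm Ω)) (htrans : ∀ x y : Ω, ∃ g : P, g • x = y) (a b c : Ω)
    (ι : stabilizer P a ≃* H0) (hb : (orbit (stabilizer P a) b).ncard = 416)
    (hc : (orbit (stabilizer P a) c).ncard = 1365) : Spor.IsoSuz P := by
  classical
  obtain ⟨b', c', ⟨D⟩⟩ := exists_setup hΩ htrans ι hb hc
  obtain ⟨Φ, hΦ⟩ := D.exists_equiv
  have hcardP : Nat.card P = 448345497600 := by
    have h := Nat.card_congr (orbitProdStabilizerEquivGroup P a)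
    rw [Nat.card_prod, Nat.card_congr ι.toEquiv, card_stab0,
      show orbit P a = Set.univ from Set.eq_univ_iff_forall.2 fun x => htrans a x,
      Nat.card_coe_set_eq, Set.ncard_univ, Nat.card_eq_fintype_card, hΩ] at h
    exact h.symm.trans (by norm_num)
  let κ : P →* Equiv.Perm (Fin 1782) := Φ.permCongrHom.toMonoidHom.comp P.subtype
  have hκ : Function.Injective κ := fun g h e => Subtype.ext (Φ.permCongrHom.injective e)
  set M : Subgroup (Equiv.Perm (Fin 1782)) := phi.range with hM
  let eM : G ≃* M := MonoidHom.ofInjective phi_inj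
  have hcardM : Nat.card M = 448345497600 := by rw [← Nat.card_congr eM.toEquiv, card_G]
  have hMA : M ≤ autFix [] := by
    rintro _ ⟨m, rfl⟩
    exact ⟨fun i j => by rw [← smul_eq, ← smul_eq]; exact rel_smul m i j,
      fun p hp => absurd hp (List.not_mem_nil)⟩
  have hPA : κ.range ≤ autFix [] := by
    rintro _ ⟨g, rfl⟩
    refine ⟨fun i j => ?_, fun p hp => absurd hp (List.not_mem_nil)⟩
    obtain ⟨x, rfl⟩ := Φ.surjective i
    obtain ⟨y, rfl⟩ := Φ.surjective j
    have e : ∀ x, κ g (Φ x) = Φ (g • x) := fun x => by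
      show Φ ((g : Equiv.Perm Ω) (Φ.symm (Φ x))) = Φ (g • x)
      rw [Equiv.symm_apply_apply]; rfl
    rw [e, e, hΦ, hΦ, edge_smul]
  have hcardR : Nat.card κ.range = 448345497600 := by
    rw [← Nat.card_congr (MonoidHom.ofInjective hκ).toEquiv, hcardP]
  set I := (κ.range ⊓ M).subgroupOf M with hI
  have hI2 : I.index ≤ 2 := by
    have h1 : (κ.range ⊓ M).relIndex M = κ.range.relIndex M := by rw [Subgroup.inf_relIndex_right]
    have h2 : κ.range.relIndex M ≤ κ.range.relIndex (autFix []) := by
      refine Subgroup.relIndex_le_of_le_right hMA ?_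
      rw [Subgroup.relIndex]
      exact Subgroup.index_ne_zero_of_finite
    have h3 : κ.range.relIndex (autFix []) * 448345497600 ≤ 896690995200 := by
      refine le_trans (le_of_eq ?_) card_autFix_nil
      rw [← hcardR, ← Nat.card_congr (Subgroup.subgroupOfEquivOfLe hPA).toEquiv, Subgroup.relIndex,
        Subgroup.index_mul_card]
    show (κ.range ⊓ M).relIndex M ≤ 2
    omega
  haveI : IsSimpleGroup G := SuzMain.isSimple
  haveI : Nontrivial M := eM.injective.nontrivial
  haveI : IsSimpleGroup M := IsSimpleGroup.isSimpleGroup_of_surjective eM.toMonoidHom eM.surjective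
  have hIcard := I.card_mul_index
  rw [hcardM] at hIcard
  have htop : I = ⊤ := by
    have hne : I.index ≠ 0 := Subgroup.index_ne_zero_of_finite
    rcases (show I.index = 1 ∨ I.index = 2 by omega) with h | h
    · exact Subgroup.index_eq_one.1 h
    · rcases (Subgroup.normal_of_index_eq_two h).eq_bot_or_eq_top with e | e
      · rw [e, Subgroup.index_bot, hcardM] at h
        exact absurd h (by norm_num)
      · exact e
  have hle : M ≤ κ.range := fun x hx => by
    have : (⟨x, hx⟩ : M) ∈ I := htop ▸ Subgroup.mem_top _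
    exact (Subgroup.mem_subgroupOf.1 this).1
  have heq : M = κ.range := Subgroup.eq_of_le_of_card_ge hle (le_of_eq (hcardR.trans hcardM.symm))
  exact ⟨((MonoidHom.ofInjective hκ).trans (MulEquiv.subgroupCongr heq.symm)).trans eM.symm⟩

end Cfsg.Agent.Golay.SuzRankThree
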