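import Cfsg.Agent.Golay.SuzRankThree.Tools
import Cfsg.Agent.H32.OutSuz.Pair

/-!
The checks of the orbit tables.
-/

set_option autoImplicit false
set_option Elab.async false

namespace Cfsg.Agent.Golay.SuzRankThree

open Cfsg.Agent.H45 Cfsg.Agent.H32.OutSuz

/-- The generators of the neighbour stabiliser. -/
def jGens : List (List ℕ) := (List.range 5).map fun l => [colL l]

/-- The generators of the Sylow subgroup of a point stabiliser. -/
def uGens : List (List ℕ) := uW.map fun w => w.map tP

/-- The generators of the stabiliser of the line. -/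
def lGens : List (List ℕ) := lW.map colsOf

theorem jTree_ok : (treeOK jGens jLab jPar jGen jDep jRoots && sizesOK jLab jSizes) = true := by
  decide +kernel

theorem uTree_ok : (treeOK uGens uLab uPar uGen uDep uRoots && sizesOK uLab uSizes) = true := by
  decide +kernel

theorem lTree_ok : (treeOK lGens lLab lPar lGen lDep lRoots && sizesOK lLab lSizes) = true := by
  decide +kernel

theorem pairSizes_ok : sizesOK (labC) sizes = true := by decide +kernel

theorem uGen_ok : ((allB 4 fun j => Nat.beq (cget (tP j) 0) 0 || Nat.beq (cget (tP j) 0) 1) &&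
    (allB 4 fun j => Nat.beq (cget (tP j) 1) 0 || Nat.beq (cget (tP j) 1) 1) &&
    ((List.range 4).any fun j => Nat.beq (cget (tP j) 0) 1) &&
    (uW.all fun w => w.all (fun j => Nat.blt j 4) && Nat.beq (evalC (w.map tP) 0) 0)) = true := by
  decide +kernel

theorem lGen_ok : ((lW.all fun w => w.all (fun l => decide (l < 6)) &&
      lineL.all fun x => lineL.contains (wordAt w x)) &&
    lineL.all (fun x => Nat.blt x 1782) && decide lineL.Nodup && lineL.contains 1 &&
    Nat.beq lineL.length 5 &&
    (lineL.all fun x => Nat.beq (cget uLab x) 1 || Nat.beq (cget uLab x) 7)) = true := by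
  decide +kernel

theorem ims_ok : ((lineIms.all fun e => e.2.all (fun j => Nat.blt j 3) &&
      lineL.all (fun x => e.1.contains (evalC (e.2.map pP) x)) && Nat.beq e.1.length 5) &&
    Nat.beq lineIms.length 5 &&
    (allB 5 fun a => allB 5 fun b => Nat.beq a b ||
      (lineIms.getD a ([], [])).1.any fun x => !((lineIms.getD b ([], [])).1.contains x)) &&
    (lineIms.all fun e => e.1.all fun x => Nat.blt x 1782)) = true := by
  decide +kernel

theorem classes_ok : ((allB 1782 fun i =>
      beqB (bget rowZero i) (Nat.beq (cget jLab i) 1 || Nat.beq (cget jLab i) 3 ||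
        Nat.beq (cget jLab i) 5) &&
      beqB (bget rowZero i) (Nat.beq (cget lLab i) 2 || Nat.beq (cget lLab i) 5) &&
      beqB (Nat.beq i 0) (Nat.beq (cget labC i) 0) && beqB (Nat.beq i 1) (Nat.beq (cget labC i) 1) &&
      beqB (Nat.beq i 915) (Nat.beq (cget jLab i) 1) &&
      beqB (Nat.beq i 0) (Nat.beq (cget uLab i) 0) &&
      (!bget rowZero i || beqB (bget row915 i) (Nat.beq (cget jLab i) 3)) &&
      beqB (!bget rowZero i && !Nat.beq i 0) ([1, 3, 4, 5, 7, 8].contains (cget uLab i)) &&
      (beqB (bget rowOne i) (Nat.beq (cget labC i) 4 || Nat.beq (cget labC i) 5))) &&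
    rowOK 915 w915 row915 && bget row915 0) = true := by
  decide +kernel

end Cfsg.Agent.Golay.SuzRankThree
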