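import Cfsg.Agent.Golay.SuzRankThree.IndexFour16
import Cfsg.Agent.Golay.SuzRankThree.TableChecks

/-!
The subgroups of index 1365 of a point stabiliser.
-/

set_option autoImplicit false
set_option Elab.async false
set_option linter.style.haveILetI false

namespace Cfsg.Agent.Golay.SuzRankThree

open MulAction Cfsg.Agent.H45 Cfsg.Agent.H32.OutSuz
open scoped Pointwise

/-- The Sylow 2-subgroup of the point stabiliser. -/
noncomputable def U0 : Subgroup G := subT ⊓ stabilizer G pt0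

lemma two_set (j : ℕ) (hj : j < 4) (i : Fin 1782) (hi : i = pt0 ∨ i = pt1) :
    tGen j • i = pt0 ∨ tGen j • i = pt1 := by
  have h := uGen_ok
  simp only [Bool.and_eq_true] at h
  have h0 := allB_spec h.1.1.1 j hj
  have h1 := allB_spec h.1.1.2 j hj
  rw [Bool.or_eq_true, Nat.beq_eq, Nat.beq_eq] at h0 h1
  rcases hi with rfl | rfl
  · rcases h0 with e | e
    · exact Or.inl (Fin.ext ((rep_tGen hj pt0).trans e))
    · exact Or.inr (Fin.ext ((rep_tGen hj pt0).trans e))
  · rcases h1 with e | e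
    · exact Or.inl (Fin.ext ((rep_tGen hj pt1).trans e))
    · exact Or.inr (Fin.ext ((rep_tGen hj pt1).trans e))

lemma subT_two {g : G} (hg : g ∈ subT) :
    ∀ i : Fin 1782, (i = pt0 ∨ i = pt1) → g • i = pt0 ∨ g • i = pt1 := by
  have hg' : g ∈ Submonoid.closure tSet := by
    rw [← Subgroup.closure_toSubmonoid_of_finite]; exact hg
  clear hg
  induction hg' using Submonoid.closure_induction with
  | mem x hx => obtain ⟨j, hj, rfl⟩ := hx; exact fun i hi => two_set j hj i hi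
  | one => intro i hi; rw [one_smul]; exact hi
  | mul a b _ _ ha hb => intro i hi; rw [mul_smul]; exact ha _ (hb i hi)

lemma orbit_subT : orbit subT pt0 = {pt0, pt1} := by
  refine Set.Subset.antisymm ?_ ?_
  · rintro _ ⟨g, rfl⟩
    exact subT_two g.2 pt0 (Or.inl rfl)
  · rintro x (rfl | rfl)
    · exact mem_orbit_self _
    · have h := uGen_ok
      simp only [Bool.and_eq_true, List.any_eq_true] at h
      obtain ⟨j, hj, e⟩ := h.1.2
      rw [List.mem_range] at hj
      exact ⟨⟨tGen j, Subgroup.subset_closure ⟨j, hj, rfl⟩⟩,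
        Fin.ext ((rep_tGen hj pt0).trans (Nat.eq_of_beq_eq_true e))⟩

lemma card_U0 : Nat.card U0 = 4096 := by
  have h1 := (stabilizer subT pt0).card_mul_index
  rw [index_stabilizer, orbit_subT, card_subT,
    Set.ncard_pair (fun e => absurd (congrArg Fin.val e) (by decide))] at h1
  have h2 : Nat.card (stabilizer subT pt0) = Nat.card U0 :=
    Nat.card_congr ⟨fun x => ⟨x.1.1, x.1.2, x.2⟩, fun x => ⟨⟨x.1, x.2.1⟩, x.2.2⟩,
      fun _ => rfl, fun _ => rfl⟩
  omega

lemma U0_le : U0 ≤ H0 := inf_le_right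

lemma U0_fix {g : G} (hg : g ∈ U0) : g • pt1 = pt1 := by
  rcases subT_two hg.1 pt1 (Or.inr rfl) with e | e
  · exact absurd (congrArg Fin.val (MulAction.injective g (e.trans (hg.2 : g • pt0 = pt0).symm)))
      (by decide)
  · exact e

lemma uGens_exist (cs : List ℕ) (hcs : cs ∈ uGens) :
    ∃ g ∈ U0, ∀ i : Fin 1782, (g • i).1 = evalC cs i.1 := by
  obtain ⟨w, hw, rfl⟩ := List.mem_map.1 hcs
  have h := uGen_ok
  simp only [Bool.and_eq_true, List.all_eq_true, Nat.blt_eq] at h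
  obtain ⟨hlt, h0⟩ := h.2 w hw
  obtain ⟨g, hg, he⟩ := exists_eval (Y := subT) (cs := w.map tP) fun P hP => by
    obtain ⟨j, hj, rfl⟩ := List.mem_map.1 hP
    exact ⟨tGen j, Subgroup.subset_closure ⟨j, hlt j hj, rfl⟩, rep_tGen (hlt j hj)⟩
  exact ⟨g, ⟨hg, Fin.ext ((he pt0).trans (Nat.eq_of_beq_eq_true h0))⟩, he⟩

/-- The line. -/
def lineSet : Set (Fin 1782) := {x | x.1 ∈ lineL}

/-- The stabiliser of the line in the point stabiliser. -/
noncomputable def LStab : Subgroup G := H0 ⊓ stabilizer G lineSet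

lemma lineL_facts : (∀ w ∈ lW, w.all (fun l => decide (l < 6)) = true ∧
      ∀ x ∈ lineL, wordAt w x ∈ lineL) ∧ (∀ x ∈ lineL, x < 1782) ∧ lineL.Nodup ∧ 1 ∈ lineL ∧
    lineL.length = 5 ∧ ∀ x ∈ lineL, cget uLab x = 1 ∨ cget uLab x = 7 := by
  have h := lGen_ok
  simp only [Bool.and_eq_true, List.all_eq_true, List.contains_iff_mem, decide_eq_true_eq,
    Nat.blt_eq, Nat.beq_eq, Bool.or_eq_true] at h
  obtain ⟨⟨⟨⟨⟨hw, hx⟩, hnd⟩, h1⟩, h5⟩, hc⟩ := h
  exact ⟨fun w hw' => ⟨List.all_eq_true.2 fun l hl => decide_eq_true ((hw w hw').1 l hl),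
    (hw w hw').2⟩, hx, hnd, h1, h5, hc⟩

lemma ncard_lineSet : lineSet.ncard = 5 := by
  obtain ⟨-, hlt, hnd, -, h5, -⟩ := lineL_facts
  rw [← h5, ← List.toFinset_card_of_nodup hnd, ← Set.ncard_coe_finset]
  refine Set.ncard_congr (fun i _ => i.1) (fun i hi => by simpa [lineSet] using hi)
    (fun a b _ _ e => Fin.ext e) fun n hn => ?_
  rw [Finset.mem_coe, List.mem_toFinset] at hn
  exact ⟨⟨n, hlt n hn⟩, hn, rfl⟩

lemma smul_lineSet {g : G} (h : ∀ x ∈ lineSet, g • x ∈ lineSet) : g • lineSet = lineSet :=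
  Set.eq_of_subset_of_ncard_le (by rintro _ ⟨x, hx, rfl⟩; exact h x hx)
    (by rw [Set.ncard_smul_set]) (Set.toFinite _)

lemma lGens_exist (cs : List ℕ) (hcs : cs ∈ lGens) :
    ∃ g ∈ LStab, ∀ i : Fin 1782, (g • i).1 = evalC cs i.1 := by
  obtain ⟨w, hw, rfl⟩ := List.mem_map.1 hcs
  obtain ⟨h6, hx⟩ := lineL_facts.1 w hw
  have he : ∀ i : Fin 1782, (wd w • i).1 = evalC (colsOf w) i.1 := fun i => by
    rw [evalC_colsOf, wd_smul (all_lt (by norm_num) h6)]
  refine ⟨wd w, ⟨wd_mem h6, smul_lineSet fun x hxL => ?_⟩, he⟩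
  show (wd w • x).1 ∈ lineL
  rw [wd_smul (all_lt (by norm_num) h6)]
  exact hx x.1 hxL

lemma ims_orbit : 5 ≤ (orbit pairP lineSet).ncard := by
  have h := ims_ok
  simp only [Bool.and_eq_true] at h
  obtain ⟨⟨⟨hims, hlen⟩, hdist⟩, hlt⟩ := h
  rw [Nat.beq_eq] at hlen
  have him : ∀ a < 5, ∃ S ∈ orbit pairP lineSet,
      ∀ x : Fin 1782, x ∈ S ↔ x.1 ∈ (lineIms.getD a ([], [])).1 := by
    intro a ha
    have hmem : lineIms.getD a ([], []) ∈ lineIms := by
      rw [List.getD_eq_getElem _ _ (hlen.symm ▸ ha)]; exact List.getElem_mem _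
    generalize lineIms.getD a ([], []) = e at hmem ⊢
    have he := List.all_eq_true.1 hims e hmem
    simp only [Bool.and_eq_true, List.all_eq_true, Nat.blt_eq, List.contains_iff_mem,
      Nat.beq_eq] at he
    obtain ⟨⟨h3, himg⟩, h5⟩ := he
    obtain ⟨g, hg, hgx⟩ := exists_eval (Y := pairP) (cs := e.2.map pP) fun P hP => by
      obtain ⟨j, hj, rfl⟩ := List.mem_map.1 hP
      exact ⟨pGen j, (pGen_facts (h3 j hj)).1, rep_pGen (h3 j hj)⟩
    refine ⟨g • lineSet, ⟨⟨g, hg⟩, rfl⟩, ?_⟩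
    have hsub : g • lineSet ⊆ {x : Fin 1782 | x.1 ∈ e.1} := by
      rintro _ ⟨x, hx, rfl⟩
      show (g • x).1 ∈ e.1
      rw [hgx]; exact himg x.1 hx
    have hcard : ({x : Fin 1782 | x.1 ∈ e.1}).ncard ≤ 5 := by
      classical
      rw [← h5]
      refine le_trans ?_ (List.toFinset_card_le e.1)
      rw [← Set.ncard_coe_finset]
      exact Set.ncard_le_ncard_of_injOn (fun i => i.1) (fun i hi => by simpa using hi)
        (fun a _ b _ e => Fin.ext e) (Finset.finite_toSet _)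
    have heq := Set.eq_of_subset_of_ncard_le hsub
      (by rw [Set.ncard_smul_set, ncard_lineSet]; exact hcard) (Set.toFinite _)
    intro x
    rw [heq]
    rfl
  choose S hS hSx using him
  rw [← Nat.card_coe_set_eq, ← Nat.card_fin 5]
  refine Nat.card_le_card_of_injective (fun a : Fin 5 => ⟨S a.1 a.2, hS a.1 a.2⟩) fun a b e => ?_
  by_contra hab
  have h1 := allB_spec (allB_spec hdist a.1 a.2) b.1 b.2
  rw [Bool.or_eq_true, Nat.beq_eq, List.any_eq_true] at h1
  rcases h1 with h1 | ⟨x, hx, hx'⟩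
  · exact hab (Fin.ext h1)
  rw [Bool.not_eq_true', Bool.eq_false_iff, ne_eq, List.contains_iff_mem] at hx'
  have hxlt : x < 1782 := by
    have hmem : lineIms.getD a.1 ([], []) ∈ lineIms := by
      rw [List.getD_eq_getElem _ _ (hlen.symm ▸ a.2)]; exact List.getElem_mem _
    exact Nat.blt_eq ▸ List.all_eq_true.1 (List.all_eq_true.1 hlt _ hmem) x hx
  have hxa : (⟨x, hxlt⟩ : Fin 1782) ∈ S a.1 a.2 := (hSx a.1 a.2 _).2 hx
  rw [show S a.1 a.2 = S b.1 b.2 from congrArg Subtype.val e] at hxa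
  exact hx' ((hSx b.1 b.2 _).1 hxa)

lemma card_LStab_le : Nat.card LStab ≤ 184320 := by
  have h1 := (stabilizer LStab pt1).card_mul_index
  rw [index_stabilizer] at h1
  have ho : (orbit LStab pt1).ncard ≤ 5 := by
    rw [← ncard_lineSet]
    refine Set.ncard_le_ncard ?_ (Set.toFinite _)
    rintro _ ⟨g, rfl⟩
    rw [← (g.2.2 : (g : G) • lineSet = lineSet)]
    exact Set.smul_mem_smul_set lineL_facts.2.2.2.1
  have hle : Nat.card (stabilizer LStab pt1) ≤ Nat.card (stabilizer pairP lineSet) :=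
    Nat.card_le_card_of_injective
      (fun x => ⟨⟨x.1.1, x.1.2.1, x.2⟩, x.1.2.2⟩)
      (fun a b e => Subtype.ext (Subtype.ext (congrArg (fun z : stabilizer pairP lineSet => z.1.1) e)))
  have h2 := (stabilizer pairP lineSet).card_mul_index
  rw [index_stabilizer, card_pairP] at h2
  have h3 : Nat.card (stabilizer pairP lineSet) * 5 ≤ 184320 :=
    (Nat.mul_le_mul_left _ ims_orbit).trans_eq h2
  calc Nat.card LStab = Nat.card (stabilizer LStab pt1) * (orbit LStab pt1).ncard := h1.symm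
    _ ≤ Nat.card (stabilizer pairP lineSet) * 5 := Nat.mul_le_mul hle ho
    _ ≤ 184320 := h3

/-- A subgroup of order 184320 containing the Sylow 2-subgroup. -/
lemma of_sylow {X : Subgroup G} (hX : X ≤ H0) (hc : Nat.card X = 184320) (hU : U0 ≤ X) :
    X = pairP ∨ X = LStab := by
  classical
  set D := orbit X pt1 with hD
  have hDX : ∀ cs ∈ uGens, ∃ g : G, (∀ i : Fin 1782, (g • i).1 = evalC cs i.1) ∧
      ∀ x ∈ D, g • x ∈ D := by
    intro cs hcs
    obtain ⟨g, hg, he⟩ := uGens_exist cs hcs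
    refine ⟨g, he, ?_⟩
    rintro _ ⟨k, rfl⟩
    exact ⟨⟨g, hU hg⟩ * k, mul_smul (g : G) (k : G) pt1⟩
  have hu := uTree_ok
  rw [Bool.and_eq_true] at hu
  obtain ⟨S, hS, hroot, hmem⟩ := exists_classes hu.1 D hDX
  have hDsub : D ⊆ orbit H0 pt1 := by
    rintro _ ⟨k, rfl⟩; exact ⟨⟨k, hX k.2⟩, rfl⟩
  have hclass : ∀ i : Fin 1782, i ∈ D → cget uLab i.1 ∈ ([1, 3, 4, 5, 7, 8] : List ℕ) := by
    intro i hi
    have hc' := classes_ok
    simp only [Bool.and_eq_true] at hc'
    have h1 := allB_spec hc'.1.1 i.1 i.2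
    simp only [Bool.and_eq_true] at h1
    have h2 := beqB_eq h1.1.2
    have hi0 : i ≠ pt0 := by
      rintro rfl
      obtain ⟨k, hk⟩ := hDsub hi
      have e : (k : G) • pt0 = pt0 := k.2
      have hk' : (k : G) • pt1 = (k : G) • pt0 := (show (k : G) • pt1 = pt0 from hk).trans e.symm
      have h10 : pt1 = pt0 := MulAction.injective (k : G) hk'
      exact absurd (congrArg Fin.val h10) (by decide)
    have hiN : bget rowZero i.1 = false := by
      rw [Bool.eq_false_iff]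
      intro hb
      have hb' : i ∈ orbit H0 ptC := by rw [orbit_ptC_eq]; exact hb
      have e1 := card_orbit_ptC
      rw [← orbit_eq_iff.2 hb', orbit_eq_iff.2 (hDsub hi), card_orbit_pt1] at e1
      omega
    rw [hiN, show Nat.beq i.1 0 = false from Bool.eq_false_iff.2 fun hb =>
      hi0 (Fin.ext (Nat.eq_of_beq_eq_true hb))] at h2
    exact List.contains_iff_mem.1 h2.symm
  have hlen : uRoots.length = 12 := rfl
  have hS' : S ⊆ ({1, 3, 4, 5, 7, 8} : Finset ℕ) := by
    intro k hk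
    rw [Finset.mem_powerset] at hS
    have hkr := Finset.mem_range.1 (hS hk)
    have h1 : rootP uRoots k ∈ D := (hroot k hkr).1 hk
    have h2 := hclass _ h1
    have h3 : ∀ k < 12, cget uLab (uRoots.getD k 0 % 1782) = k := by decide +kernel
    rw [show cget uLab (rootP uRoots k).1 = k from h3 k (hlen ▸ hkr)] at h2
    simpa using h2
  have h1D : pt1 ∈ D := mem_orbit_self _
  have h1S : 1 ∈ S := by
    have := (hmem pt1).1 h1D
    rwa [show cget uLab pt1.1 = 1 by decide +kernel] at this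
  have hcount := ncard_classes (W := D) hu.2 (fun k hk => by
    rw [Finset.mem_powerset] at hS
    exact lt_of_lt_of_eq (Finset.mem_range.1 (hS hk)) (by rfl)) hmem
  have hst := (stabilizer X pt1).card_mul_index
  rw [index_stabilizer, hc, ← hD, hcount] at hst
  have h4096 : 4096 ∣ Nat.card (stabilizer X pt1) := by
    rw [← card_U0]
    have hle : U0 ≤ X ⊓ stabilizer G pt1 := fun g hg => ⟨hU hg, U0_fix hg⟩
    refine (Subgroup.card_dvd_of_le hle).trans (dvd_of_eq (Nat.card_congr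
      ⟨fun x => ⟨⟨x.1, x.2.1⟩, x.2.2⟩, fun x => ⟨x.1.1, x.1.2, x.2⟩, fun _ => rfl, fun _ => rfl⟩))
  obtain ⟨m, hm⟩ := h4096
  rw [hm, mul_assoc] at hst
  have h45 : (∑ k ∈ S, uSizes.getD k 0) ∣ 45 := ⟨m, by
    have h2 : 4096 * (m * ∑ k ∈ S, uSizes.getD k 0) = 4096 * 45 := hst.trans (by norm_num)
    rw [mul_comm]
    exact (Nat.eq_of_mul_eq_mul_left (by norm_num) h2).symm⟩
  have hdec : ∀ S ∈ ({1, 3, 4, 5, 7, 8} : Finset ℕ).powerset, 1 ∈ S →
      (∑ k ∈ S, uSizes.getD k 0) ∣ 45 → S = {1} ∨ S = {1, 7} := by decide +kernel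
  rcases hdec S (Finset.mem_powerset.2 hS') h1S h45 with rfl | rfl
  · left
    refine Subgroup.eq_of_le_of_card_ge (fun g hg => ⟨hX hg, ?_⟩) (by rw [hc, card_pairP])
    have h5 : D.ncard = 1 := hcount.trans (by decide +kernel)
    obtain ⟨x, hx⟩ := Set.ncard_eq_one.1 h5
    have e1 : pt1 = x := Set.eq_of_mem_singleton (hx ▸ h1D)
    have e2 : g • pt1 ∈ D := ⟨⟨g, hg⟩, rfl⟩
    rw [hx, ← e1] at e2
    exact e2
  · right
    have h5 : D.ncard = 5 := hcount.trans (by decide +kernel)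
    have hDL : lineSet = D := by
      refine Set.eq_of_subset_of_ncard_le (fun x hx => ?_) (by rw [h5, ncard_lineSet])
        (Set.toFinite _)
      rw [hmem]
      rcases lineL_facts.2.2.2.2.2 x.1 hx with e | e <;> simp [e]
    refine Subgroup.eq_of_le_of_card_ge (fun g hg => ⟨hX hg, ?_⟩)
      (card_LStab_le.trans_eq hc.symm)
    refine smul_lineSet fun x hx => ?_
    rw [hDL] at hx ⊢
    obtain ⟨k, rfl⟩ := hx
    exact ⟨⟨g, hg⟩ * k, mul_smul (g : G) (k : G) pt1⟩

/-- The subgroups of index 1365 up to conjugacy. -/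
theorem index1365 {X : Subgroup G} (hX : X ≤ H0) (hc : Nat.card X = 184320) :
    ∃ h ∈ H0, X.map (MulAut.conj h).toMonoidHom = pairP ∨
      X.map (MulAut.conj h).toMonoidHom = LStab := by
  classical
  haveI : Fact (Nat.Prime 2) := ⟨by norm_num⟩
  obtain ⟨R⟩ : Nonempty (Sylow 2 X) := inferInstance
  have hfac : ∀ m, ¬ 2 ∣ m → (4096 * m).factorization 2 = 12 := by
    intro m hm
    have hm0 : m ≠ 0 := by rintro rfl; exact hm (dvd_zero 2)
    rw [Nat.factorization_mul (by norm_num) hm0, Finsupp.add_apply,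
      show (4096 : ℕ) = 2 ^ 12 by norm_num, Nat.factorization_pow, Finsupp.smul_apply,
      Nat.Prime.factorization_self (by norm_num), Nat.factorization_eq_zero_of_not_dvd hm]
    rfl
  have hR : Nat.card R = 4096 := by
    rw [Sylow.card_eq_multiplicity, hc, show (184320 : ℕ) = 4096 * 45 by norm_num,
      hfac _ (by norm_num)]
    rfl
  set R' : Subgroup H0 := (R.1.map X.subtype).subgroupOf H0 with hR'
  have hRle : R.1.map X.subtype ≤ H0 := (Subgroup.map_subtype_le _).trans hX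
  have hcR' : Nat.card R' = 4096 := by
    rw [hR', Nat.card_congr (Subgroup.subgroupOfEquivOfLe hRle).toEquiv,
      Subgroup.card_map_of_injective X.subtype_injective]
    exact hR
  set S' : Subgroup H0 := U0.subgroupOf H0 with hS'
  have hcS' : Nat.card S' = 4096 := by
    rw [hS', Nat.card_congr (Subgroup.subgroupOfEquivOfLe U0_le).toEquiv, card_U0]
  have hsyl : ∀ U : Subgroup H0, Nat.card U = 4096 →
      Nat.card U = 2 ^ (Nat.card H0).factorization 2 := fun U hU => by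
    rw [hU, card_stab0, show (251596800 : ℕ) = 4096 * 61425 by norm_num, hfac _ (by norm_num)]
    rfl
  obtain ⟨h, hh⟩ := MulAction.exists_smul_eq H0 (Sylow.ofCard R' (hsyl _ hcR'))
    (Sylow.ofCard S' (hsyl _ hcS'))
  refine ⟨h, h.2, of_sylow ?_ ?_ ?_⟩
  · rintro _ ⟨x, hx, rfl⟩
    exact mul_mem (mul_mem h.2 (hX hx)) (inv_mem h.2)
  · rw [Subgroup.card_map_of_injective (f := (MulAut.conj (h : G)).toMonoidHom)
      (MulEquiv.injective _), hc]
  · intro g hg
    have hg' : (⟨g, U0_le hg⟩ : H0) ∈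
        (h • Sylow.ofCard R' (hsyl _ hcR') : Sylow 2 H0).1 := by
      rw [hh]; exact hg
    rw [Sylow.coe_subgroup_smul] at hg'
    obtain ⟨r, hr, e⟩ := hg'
    exact ⟨r, Subgroup.map_subtype_le _ hr, congrArg Subtype.val e⟩

end Cfsg.Agent.Golay.SuzRankThree
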