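import Cfsg.Agent.Golay.SuzRankThree.Conj

/-!
The Sylow 3-subgroup generated by the two chosen elements.
-/

set_option autoImplicit false
set_option Elab.async false
set_option linter.style.haveILetI false

namespace Cfsg.Agent.Golay.SuzRankThree

open MulAction Cfsg.Agent.H45 Cfsg.Agent.H32.OutSuz

/-- The elements of the Sylow subgroup as products. -/
def nodes : List (List ℕ) := [[], [0], [1], [0, 0], [1, 0], [0, 1], [1, 1], [1, 0, 0], [0, 1, 0], [1, 1, 0], [0, 0, 1], [1, 0, 1], [0, 1, 1], [0, 1, 0, 0], [1, 1, 0, 0], [0, 0, 1, 0], [1, 0, 1, 0], [0, 1, 1, 0], [1, 1, 0, 1], [1, 0, 1, 1], [0, 0, 1, 0, 0], [1, 0, 1, 0, 0], [0, 1, 1, 0, 0], [1, 1, 0, 1, 0], [1, 0, 1, 1, 0], [1, 1, 0, 1, 0, 0], [1, 0, 1, 1, 0, 0]]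

/-- The packed permutation of a generator. -/
def abP (s : ℕ) : ℕ := bif Nat.beq s 0 then aP else bP

/-- The images of the base under a product. -/
def nodeKey (w : List ℕ) : List ℕ := (List.range 5).map fun m => evalC (w.map abP) (bPt m)

/-- The product expressing the central element. -/
def zWord : List ℕ := [1, 1, 0, 1, 0, 0]

theorem nodes_ok : ((nodes.all fun w => [0, 1].all fun s =>
      (nodes.map nodeKey).contains (nodeKey (s :: w))) &&
    decide (nodes.map nodeKey).Nodup && Nat.beq nodes.length 27 && nodes.contains [] &&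
    nodes.contains zWord &&
    all5 fun m => Nat.beq (evalC (zWord.map abP) (bPt m)) (cget zP (bPt m))) = true := by
  decide +kernel

/-- The element of a product. -/
noncomputable def nodeEl (w : List ℕ) : G :=
  (w.map fun s => if Nat.beq s 0 then elA else elB).prod

lemma nodeEl_smul : ∀ (w : List ℕ) (x : Fin 1782), (nodeEl w • x).1 = evalC (w.map abP) x.1
  | [], x => by
    show ((1 : G) • x).1 = x.1
    rw [one_smul]
  | s :: w, x => by
    show ((((if Nat.beq s 0 then elA else elB) * nodeEl w) : G) • x).1 =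
      cget (abP s) (evalC (w.map abP) x.1)
    rw [← nodeEl_smul w x, mul_smul, abP]
    cases Nat.beq s 0
    · exact sylow_reps.2.1 _
    · exact sylow_reps.1 _

lemma node_eq {u v : List ℕ} (h : nodeKey u = nodeKey v) : nodeEl u = nodeEl v := by
  have e : ∀ k : Fin 5, nodeEl u • ptB k = nodeEl v • ptB k := fun k => Fin.ext (by
    rw [nodeEl_smul, nodeEl_smul, bPt_eq]
    exact List.map_inj_left.1 h k.1 (List.mem_range.2 k.2))
  have h1 : (nodeEl v)⁻¹ * nodeEl u = 1 := eq_one_of_fix fun k => by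
    rw [mul_smul, inv_smul_eq_iff]; exact e k
  exact (inv_mul_eq_one.1 h1).symm

lemma key_of_eq {u v : List ℕ} (h : nodeEl u = nodeEl v) : nodeKey u = nodeKey v := by
  refine List.map_congr_left fun m hm => ?_
  rw [List.mem_range] at hm
  have := congrArg (fun g : G => (g • ptB ⟨m, hm⟩).1) h
  simp only [nodeEl_smul, bPt_eq] at this
  exact this

/-- The Sylow subgroup. -/
def sylT : Subgroup G := Subgroup.closure {elA, elB}

lemma sylT_elem {g : G} (hg : g ∈ sylT) : ∃ w ∈ nodes, nodeEl w = g := by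
  have h := nodes_ok
  simp only [Bool.and_eq_true, List.all_eq_true, List.contains_iff_mem] at h
  obtain ⟨⟨⟨⟨⟨hcl, -⟩, -⟩, h1⟩, -⟩, -⟩ := h
  rw [sylT] at hg
  have hg' : g ∈ Submonoid.closure ({elA, elB} : Set G) := by
    rw [← Subgroup.closure_toSubmonoid_of_finite]; exact hg
  clear hg
  induction hg' using Submonoid.closure_induction_left with
  | one => exact ⟨[], h1, rfl⟩
  | mul_left x hx y _ ih =>
    obtain ⟨w, hw, rfl⟩ := ih
    obtain ⟨s, hs, hsx⟩ : ∃ s ∈ [0, 1], (if Nat.beq s 0 then elA else elB) = x := by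
      rcases hx with rfl | rfl
      · exact ⟨0, by simp, rfl⟩
      · exact ⟨1, by simp, rfl⟩
    obtain ⟨v, hv, hk⟩ := List.mem_map.1 (hcl w hw s hs)
    exact ⟨v, hv, by rw [node_eq hk]; show (if Nat.beq s 0 then elA else elB) * nodeEl w = _; rw [hsx]⟩

lemma nodeEl_mem (w : List ℕ) : nodeEl w ∈ sylT := by
  refine list_prod_mem fun x hx => ?_
  obtain ⟨s, -, rfl⟩ := List.mem_map.1 hx
  split <;> exact Subgroup.subset_closure (by simp)

theorem card_sylT : Nat.card sylT = 27 := by
  classical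
  have h := nodes_ok
  simp only [Bool.and_eq_true, decide_eq_true_eq, Nat.beq_eq] at h
  obtain ⟨⟨⟨⟨⟨-, hnd⟩, hlen⟩, -⟩, -⟩, -⟩ := h
  have hnd2 : (nodes.map nodeEl).Nodup := by
    refine List.Nodup.map_on (fun u hu v hv e => ?_) (List.Nodup.of_map _ hnd)
    exact List.inj_on_of_nodup_map hnd hu hv (key_of_eq e)
  have hset : (sylT : Set G) = {g | g ∈ nodes.map nodeEl} := by
    ext g
    constructor
    · intro hg
      obtain ⟨w, hw, rfl⟩ := sylT_elem hg
      exact List.mem_map.2 ⟨w, hw, rfl⟩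
    · intro hg
      obtain ⟨w, -, rfl⟩ := List.mem_map.1 hg
      exact nodeEl_mem w
  rw [← SetLike.coe_sort_coe, Nat.card_coe_set_eq, hset, ← hlen, ← List.length_map (f := nodeEl),
    ← List.toFinset_card_of_nodup hnd2, ← Set.ncard_coe_finset]
  congr 1
  ext g
  simp

theorem elZ_mem_closure : elZ ∈ Subgroup.closure ({elA, elB} : Set G) := by
  have h := nodes_ok
  simp only [Bool.and_eq_true] at h
  have e : nodeEl zWord = elZ := by
    have h1 : (elZ)⁻¹ * nodeEl zWord = 1 := eq_one_of_fix fun k => by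
      rw [mul_smul, inv_smul_eq_iff]
      refine Fin.ext ?_
      rw [nodeEl_smul, sylow_reps.2.2, bPt_eq]
      exact Nat.eq_of_beq_eq_true (all5_spec h.2 k.1 k.2)
    exact (inv_mul_eq_one.1 h1).symm
  exact e ▸ nodeEl_mem zWord

lemma sylT_le : sylT ≤ H0 := (Subgroup.closure_le _).2 (by
  rintro g (rfl | rfl)
  · exact elA_mem
  · exact elB_mem)

end Cfsg.Agent.Golay.SuzRankThree
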