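import Cfsg.Agent.Golay.SuzRankThree.Defs

/-!
Generic lemmas: evaluation of products, invariant sets as unions of classes, and the size of a
conjugacy orbit of an element under a subgroup.
-/

set_option autoImplicit false
set_option Elab.async false

namespace Cfsg.Agent.Golay.SuzRankThree

open MulAction Cfsg.Agent.H45 Cfsg.Agent.H32.OutSuz

/-- Letters as packed permutations. -/
abbrev colsOf (w : List ℕ) : List ℕ := w.map colL

lemma evalC_colsOf : ∀ (w : List ℕ) (x : ℕ), evalC (colsOf w) x = wordAt w x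
  | [], _ => rfl
  | l :: w, x => by
    show cget (colL l) (evalC (colsOf w) x) = cget (colL l) (wordAt w x)
    rw [evalC_colsOf w x]

/-- A product of packed permutations of members of a subgroup is one of a member. -/
lemma exists_eval {Y : Subgroup G} : ∀ {cs : List ℕ}, (∀ P ∈ cs, ∃ g ∈ Y, Rep g P) →
    ∃ g ∈ Y, ∀ i : Fin 1782, (g • i).1 = evalC cs i.1
  | [], _ => ⟨1, one_mem _, fun i => by rw [one_smul]; rfl⟩
  | P :: cs, h => by
    obtain ⟨g, hgY, hg⟩ := h P List.mem_cons_self
    obtain ⟨k, hkY, hk⟩ := exists_eval fun Q hQ => h Q (List.mem_cons_of_mem _ hQ)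
    exact ⟨g * k, mul_mem hgY hkY, fun i => by rw [mul_smul, hg, hk]; rfl⟩

/-- A set stable under an injective map of a finite type is stable in both directions. -/
lemma mem_iff_of_stable {α : Type*} [Finite α] {W : Set α} {f : α → α} (hf : Function.Injective f)
    (h : ∀ x ∈ W, f x ∈ W) (x : α) : f x ∈ W ↔ x ∈ W := by
  refine ⟨fun hx => ?_, h x⟩
  have e : f '' W = W := Set.eq_of_subset_of_ncard_le (Set.image_subset_iff.2 h)
    (Set.ncard_image_of_injective _ hf).ge (Set.toFinite _)
  rw [← e] at hx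
  exact hf.mem_set_image.1 hx

/-- The tree of a labelled table of orbits. -/
def treeOK (gens : List (List ℕ)) (lab par gen dep : ℕ) (roots : List ℕ) : Bool :=
  allB 1782 fun i => Nat.blt (cget lab i) roots.length &&
    (Nat.beq (roots.getD (cget lab i) 0) i ||
      (Nat.blt (cget par i) 1782 && Nat.blt (cget dep (cget par i)) (cget dep i) &&
        Nat.beq (cget lab (cget par i)) (cget lab i) && Nat.blt (cget gen i) gens.length &&
        Nat.beq (evalC (gens.getD (cget gen i) []) (cget par i)) i))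

/-- The root of a class. -/
def rootP (roots : List ℕ) (k : ℕ) : Fin 1782 := ⟨roots.getD k 0 % 1782, Nat.mod_lt _ (by norm_num)⟩

lemma treeOK_sound {gens : List (List ℕ)} {lab par gen dep : ℕ} {roots : List ℕ}
    (h : treeOK gens lab par gen dep roots = true) {W : Set (Fin 1782)}
    (hW : ∀ cs ∈ gens, ∃ g : G, (∀ i : Fin 1782, (g • i).1 = evalC cs i.1) ∧
      ∀ x ∈ W, g • x ∈ W) (i : Fin 1782) :
    cget lab i.1 < roots.length ∧ (i ∈ W ↔ rootP roots (cget lab i.1) ∈ W) := by
  suffices h' : ∀ d, ∀ i : Fin 1782, cget dep i.1 ≤ d →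
      cget lab i.1 < roots.length ∧ (i ∈ W ↔ rootP roots (cget lab i.1) ∈ W) from h' _ i le_rfl
  intro d
  induction d using Nat.strong_induction_on with
  | _ d ih =>
    intro i hi
    have h1 := allB_spec h i.1 i.2
    simp only [Bool.and_eq_true, Bool.or_eq_true, Nat.blt_eq] at h1
    obtain ⟨hl, h1⟩ := h1
    refine ⟨hl, ?_⟩
    obtain h1 | ⟨⟨⟨⟨hp, hd⟩, hle⟩, hg⟩, hev⟩ := h1
    · rw [show rootP roots (cget lab i.1) = i from Fin.ext (by
        show roots.getD _ 0 % 1782 = i.1
        rw [Nat.eq_of_beq_eq_true h1, Nat.mod_eq_of_lt i.2])]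
    · obtain ⟨g, hrep, hgW⟩ := hW (gens.getD (cget gen i.1) []) (by
        rw [List.getD_eq_getElem _ _ hg]; exact List.getElem_mem hg)
      have e : g • (⟨_, hp⟩ : Fin 1782) = i :=
        Fin.ext ((hrep _).trans (Nat.eq_of_beq_eq_true hev))
      obtain ⟨-, ih1⟩ := ih (cget dep (cget par i.1)) (by omega) ⟨_, hp⟩ le_rfl
      rw [← Nat.eq_of_beq_eq_true hle, ← ih1]
      conv_lhs => rw [← e]
      exact mem_iff_of_stable (MulAction.injective g) hgW _

/-- The number of points of a class. -/
def classCnt (lab k : ℕ) : ℕ := ((List.range 1782).filter fun i => Nat.beq (cget lab i) k).length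

/-- The class sizes are as listed. -/
def sizesOK (lab : ℕ) (sizes : List ℕ) : Bool :=
  allB sizes.length fun k => Nat.beq (classCnt lab k) (sizes.getD k 0)

lemma ncard_classes {lab : ℕ} {sizes : List ℕ} (hs : sizesOK lab sizes = true)
    {W : Set (Fin 1782)} {S : Finset ℕ} (hS : ∀ k ∈ S, k < sizes.length)
    (hW : ∀ i, i ∈ W ↔ cget lab i.1 ∈ S) :
    W.ncard = ∑ k ∈ S, sizes.getD k 0 := by
  classical
  rw [Set.ncard_eq_toFinset_card', Finset.card_eq_sum_card_fiberwise
    (f := fun i : Fin 1782 => cget lab i.1) (t := S)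
    (fun i hi => (hW i).1 (Set.mem_toFinset.1 hi))]
  refine Finset.sum_congr rfl fun k hk => ?_
  rw [← Nat.eq_of_beq_eq_true (allB_spec hs k (hS k hk)), classCnt,
    ← List.toFinset_card_of_nodup (List.Nodup.filter _ List.nodup_range)]
  refine Finset.card_bij (fun i _ => i.1) (fun i hi => ?_) (fun a _ b _ e => Fin.ext e) ?_
  · rw [Finset.mem_filter] at hi
    rw [List.mem_toFinset, List.mem_filter, List.mem_range, Nat.beq_eq]
    exact ⟨i.2, hi.2⟩
  · intro n hn
    rw [List.mem_toFinset, List.mem_filter, List.mem_range, Nat.beq_eq] at hn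
    refine ⟨⟨n, hn.1⟩, ?_, rfl⟩
    rw [Finset.mem_filter, Set.mem_toFinset, hW]
    exact ⟨by rw [hn.2]; exact hk, hn.2⟩

open Classical in
/-- An invariant set is described by a set of classes. -/
lemma exists_classes {gens : List (List ℕ)} {lab par gen dep : ℕ} {roots : List ℕ}
    (h : treeOK gens lab par gen dep roots = true) (W : Set (Fin 1782))
    (hW : ∀ cs ∈ gens, ∃ g : G, (∀ i : Fin 1782, (g • i).1 = evalC cs i.1) ∧
      ∀ x ∈ W, g • x ∈ W) :
    ∃ S ∈ (Finset.range roots.length).powerset,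
      (∀ k < roots.length, k ∈ S ↔ rootP roots k ∈ W) ∧ ∀ i, i ∈ W ↔ cget lab i.1 ∈ S := by
  refine ⟨(Finset.range roots.length).filter fun k => rootP roots k ∈ W,
    Finset.mem_powerset.2 (Finset.filter_subset _ _), fun k hk => ?_, fun i => ?_⟩
  · rw [Finset.mem_filter, Finset.mem_range]; exact and_iff_right hk
  · obtain ⟨hl, hiff⟩ := treeOK_sound h hW i
    rw [Finset.mem_filter, Finset.mem_range, hiff, and_iff_right hl]

/-! ### Conjugates of an element under a subgroup -/

section

variable {M : Type*} [Group M] [Finite M]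

/-- The conjugates of an element under a subgroup. -/
def conjSet (K : Subgroup M) (z : M) : Set M := {g | ∃ k ∈ K, k * z * k⁻¹ = g}

lemma ncard_conjSet_mul (K : Subgroup M) (z : M) :
    (conjSet K z).ncard * Nat.card (K ⊓ Subgroup.centralizer ({z} : Set M) : Subgroup M) =
      Nat.card K := by
  letI : MulAction K M := MulAction.compHom M (ConjAct.toConjAct.toMonoidHom.comp K.subtype)
  have hsmul : ∀ (k : K) (m : M), k • m = (k : M) * m * (k : M)⁻¹ := fun k m => rfl
  have horb : orbit K z = conjSet K z := by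
    ext g
    constructor
    · rintro ⟨k, rfl⟩; exact ⟨k, k.2, (hsmul k z).symm⟩
    · rintro ⟨k, hk, rfl⟩; exact ⟨⟨k, hk⟩, hsmul _ _⟩
  have hst : Nat.card (stabilizer K z) =
      Nat.card (K ⊓ Subgroup.centralizer ({z} : Set M) : Subgroup M) := by
    refine Nat.card_congr
      { toFun := fun x => ⟨x.1.1, x.1.2, ?_⟩
        invFun := fun x => ⟨⟨x.1, x.2.1⟩, ?_⟩
        left_inv := fun _ => rfl
        right_inv := fun _ => rfl }
    · have e : x.1.1 * z * x.1.1⁻¹ = z := x.2
      exact Subgroup.mem_centralizer_singleton_iff.2 (mul_inv_eq_iff_eq_mul.1 e)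
    · show x.1 * z * x.1⁻¹ = z
      exact mul_inv_eq_iff_eq_mul.2 (Subgroup.mem_centralizer_singleton_iff.1 x.2.2)
  rw [← horb, ← hst, ← Nat.card_coe_set_eq, ← Nat.card_prod]
  exact Nat.card_congr (orbitProdStabilizerEquivGroup K z)

end

end Cfsg.Agent.Golay.SuzRankThree
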