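import Cfsg.Agent.Golay.SuzRankThree.SylowThree
import Cfsg.Agent.Golay.SuzRankThree.CheckTree
import Cfsg.Agent.Golay.SuzRankThree.CheckWitA
import Cfsg.Agent.Golay.SuzRankThree.CheckWitB

/-!
A subgroup of order 604800 of a point stabiliser of the Suzuki group that contains the chosen Sylow
3-subgroup is the stabiliser of a neighbour.
-/

set_option autoImplicit false
set_option Elab.async false
set_option linter.style.haveILetI false

namespace Cfsg.Agent.Golay.SuzRankThree

open MulAction Cfsg.Agent.H45 Cfsg.Agent.H32.OutSuz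

lemma iter_pow {g : G} {f : ℕ → ℕ} (hg : ∀ x : Fin 1782, (g • x).1 = f x.1) :
    ∀ n, ∀ x : Fin 1782, (g ^ n • x).1 = iterN n f x.1
  | 0, x => by rw [pow_zero, one_smul]; rfl
  | n + 1, x => by rw [pow_succ', mul_smul, hg, iter_pow hg n x]; rfl

lemma wit_spec {k : ℕ} (hk : k < 172) : witOK k = true := by
  by_cases h : k < 86
  · exact allB_spec witsA_ok k h
  · have h2 := allB_spec witsB_ok (k - 86) (by omega)
    rwa [show 86 + (k - 86) = k by omega] at h2

lemma ptB_val (k : Fin 5) : (ptB k).1 = bPt k.1 := bPt_eq k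

lemma elem_eq {g h : G} (e : ∀ k : Fin 5, (g • ptB k).1 = (h • ptB k).1) : g = h := by
  have h1 : h⁻¹ * g = 1 := eq_one_of_fix fun k => by
    rw [mul_smul, inv_smul_eq_iff]
    exact Fin.ext (e k)
  exact (inv_mul_eq_one.1 h1).symm

section

variable {X : Subgroup G} (hX : X ≤ H0) (hc : Nat.card X = 604800) (ha : elA ∈ X) (hb : elB ∈ X)

include hc in
/-- No nontrivial element of the subgroup has order thirteen. -/
lemma no_thirteen {g : G} (hg : g ∈ X) (h13 : g ^ 13 = 1) : g = 1 := by
  have h1 : orderOf g ∣ 13 := orderOf_dvd_of_pow_eq_one h13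
  have h2 : orderOf g ∣ 604800 := by
    rw [← hc]; exact X.orderOf_dvd_natCard hg
  have h3 : orderOf g ∣ Nat.gcd 13 604800 := Nat.dvd_gcd h1 h2
  exact orderOf_eq_one_iff.1 (Nat.dvd_one.1 h3)

include ha hb in
lemma exists_sym {i : ℕ} (hi : i < 4160) (hzi : zEl i ∈ X) (w : List ℕ) :
    ∃ g ∈ X, ∀ x : Fin 1782, (g • x).1 = symW i w x.1 := by
  induction w with
  | nil => exact ⟨1, one_mem _, fun x => by rw [one_smul]; rfl⟩
  | cons s w ih =>
    obtain ⟨g, hg, hgx⟩ := ih
    obtain ⟨h, hh, hhx⟩ : ∃ h ∈ X, ∀ x : Fin 1782, (h • x).1 = symAt i s x.1 := by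
      unfold symAt
      cases h0 : Nat.beq s 0
      · cases h1 : Nat.beq s 1
        · exact ⟨zEl i, hzi, fun x => zEl_smul hi x⟩
        · exact ⟨elB, hb, fun x => sylow_reps.2.1 x⟩
      · exact ⟨elA, ha, fun x => sylow_reps.1 x⟩
    exact ⟨h * g, mul_mem hh hg, fun x => by rw [mul_smul, hhx, hgx]; rfl⟩

include ha hb in
lemma exists_target {i : ℕ} (hi : i < 4160) (hzi : zEl i ∈ X) {moved : Bool} {w : List ℕ} {l : ℕ}
    (hl : l < 5)
    (h : all5 (fun m => Nat.beq (symW i w (bPt m)) (wordAt (target moved l) (bPt m))) = true) :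
    wd (target moved l) ∈ X := by
  obtain ⟨g, hg, hgx⟩ := exists_sym ha hb hi hzi w
  suffices e : wd (target moved l) = g from e ▸ hg
  have hw : (target moved l).all (fun a => decide (a < 7)) = true := by
    have hm := sylow_ok
    simp only [Bool.and_eq_true] at hm
    have hm7 := List.all_eq_true.1 (all_lt (by norm_num) hm.1.2)
    rw [List.all_eq_true]
    intro a hmem
    rw [decide_eq_true_eq]
    cases moved
    · simp only [target, cond_false, List.mem_cons, List.not_mem_nil, or_false] at hmem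
      omega
    · simp only [target, cond_true, List.mem_append, List.mem_cons, List.mem_reverse] at hmem
      rcases hmem with hmem | rfl | hmem
      · exact of_decide_eq_true (hm7 a hmem)
      · omega
      · exact of_decide_eq_true (hm7 a hmem)
  refine elem_eq fun k => ?_
  rw [hgx, wd_smul hw, ptB_val]
  exact (Nat.eq_of_beq_eq_true (all5_spec h k.1 k.2)).symm

/-- The indices of the conjugates of the central element under the subgroup. -/
def TIdx (X : Subgroup G) : Set ℕ := {i | i < 4160 ∧ zEl i ∈ conjSet X elZ}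

include hX in
lemma conjSet_le : conjSet X elZ ⊆ conjSet H0 elZ :=
  fun _ ⟨k, hk, e⟩ => ⟨k, hX hk, e⟩

include hX hc in
lemma tidx_dvd : 604800 ∣ (TIdx X).ncard * 60480 ∧ (TIdx X).ncard ∣ 604800 := by
  have hT : (TIdx X).ncard = (conjSet X elZ).ncard := by
    refine Set.ncard_congr (fun i _ => zEl i) (fun i hi => hi.2)
      (fun i j hi hj e => zEl_inj hi.1 hj.1 e) fun g hg => ?_
    obtain ⟨i, hi, rfl⟩ := exists_idx (conjSet_le hX hg)
    exact ⟨i, ⟨hi, hg⟩, rfl⟩
  have h := ncard_conjSet_mul X elZ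
  rw [hc, ← hT] at h
  refine ⟨?_, ⟨_, h.symm⟩⟩
  have hd : Nat.card (X ⊓ Subgroup.centralizer ({elZ} : Set G) : Subgroup G) ∣ 60480 := by
    rw [← card_centralizer_elZ]
    exact Subgroup.card_dvd_of_le (inf_le_inf_right _ hX)
  rw [← h]
  exact mul_dvd_mul_left _ hd

include ha hb in
lemma tidx_act {i : ℕ} (hi : i ∈ TIdx X) (w : List ℕ) (hw : w = waW ∨ w = wbW) :
    actW w i ∈ TIdx X := by
  obtain ⟨wa, wb, -⟩ := sylow_words
  have hwl : ∀ l ∈ w, l < 6 := fun l hl => by
    rcases hw with rfl | rfl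
    · exact of_decide_eq_true (List.all_eq_true.1 wa l hl)
    · exact of_decide_eq_true (List.all_eq_true.1 wb l hl)
  obtain ⟨h1, h2⟩ := zEl_actW hwl hi.1
  have hwX : wd w ∈ X := by rcases hw with rfl | rfl <;> assumption
  obtain ⟨k, hk, e⟩ := hi.2
  refine ⟨h1, wd w * k, mul_mem hwX hk, ?_⟩
  rw [← h2, ← e, mul_inv_rev]
  simp only [mul_assoc]

include ha hb in
lemma tidx_root : ∀ i < 4160, cget sLab i < 172 ∧
    (i ∈ TIdx X ↔ cget sRoots (cget sLab i) ∈ TIdx X) := by
  suffices h : ∀ d, ∀ i < 4160, cget sDep i ≤ d → cget sLab i < 172 ∧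
      (i ∈ TIdx X ↔ cget sRoots (cget sLab i) ∈ TIdx X) from fun i hi => h _ i hi le_rfl
  have hfin : (TIdx X).Finite := (Set.finite_lt_nat 4160).subset fun i hi => hi.1
  intro d
  induction d using Nat.strong_induction_on with
  | _ d ih =>
    intro i hi hd
    have h1 := allB_spec sTree_ok i hi
    simp only [Bool.and_eq_true, Bool.or_eq_true, Nat.blt_eq] at h1
    obtain ⟨hl, h1⟩ := h1
    refine ⟨hl, ?_⟩
    obtain h1 | ⟨⟨⟨hp, hdp⟩, hle⟩, hev⟩ := h1
    · rw [Nat.eq_of_beq_eq_true h1]
    · obtain ⟨w, hw, hew⟩ : ∃ w, (w = waW ∨ w = wbW) ∧ actW w (cget sPar i) = i := by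
        cases h0 : Nat.beq (cget sGen i) 0
        · rw [h0, cond_false] at hev
          exact ⟨_, Or.inr rfl, Nat.eq_of_beq_eq_true hev⟩
        · rw [h0, cond_true] at hev
          exact ⟨_, Or.inl rfl, Nat.eq_of_beq_eq_true hev⟩
      obtain ⟨-, ih1⟩ := ih (cget sDep (cget sPar i)) (by omega) _ hp le_rfl
      rw [← Nat.eq_of_beq_eq_true hle, ← ih1]
      obtain ⟨wa, wb, -⟩ := sylow_words
      have hwl : ∀ l ∈ w, l < 6 := fun l hl => by
        rcases hw with rfl | rfl
        · exact of_decide_eq_true (List.all_eq_true.1 wa l hl)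
        · exact of_decide_eq_true (List.all_eq_true.1 wb l hl)
      have hinj : Set.InjOn (actW w) (TIdx X) := by
        intro p hp' q hq e
        have h2 := (zEl_actW hwl hp'.1).2
        rw [e, ← (zEl_actW hwl hq.1).2] at h2
        exact zEl_inj hp'.1 hq.1 (mul_left_cancel (mul_right_cancel h2))
      constructor
      · intro hiT
        have himg : actW w '' TIdx X = TIdx X :=
          Set.eq_of_subset_of_ncard_le
            (Set.image_subset_iff.2 fun p hp' => tidx_act ha hb hp' w hw)
            hinj.ncard_image.ge hfin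
        rw [← himg] at hiT
        obtain ⟨p, hp', hpe⟩ := hiT
        rw [← hew] at hpe
        have h2 := (zEl_actW hwl hp'.1).2
        rw [hpe, ← (zEl_actW hwl hp).2] at h2
        rwa [← zEl_inj hp'.1 hp (mul_left_cancel (mul_right_cancel h2))]
      · intro hpT
        exact hew ▸ tidx_act ha hb hpT w hw

include hX hc ha hb in
/-- Either the five targets lie in the subgroup, for one of the two neighbours. -/
lemma exists_targets : ∃ moved : Bool, ∀ l < 5, wd (target moved l) ∈ X := by
  classical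
  by_contra hcon
  push Not at hcon
  have h0 : (0 : ℕ) ∈ TIdx X := ⟨by norm_num, 1, one_mem _, by
    rw [zEl_zero, one_mul, inv_one, mul_one]⟩
  have hzX : ∀ i ∈ TIdx X, zEl i ∈ X := by
    rintro i ⟨-, k, hk, e⟩
    have hz : elZ ∈ X := by
      have hcz : elZ ∈ Subgroup.closure ({elA, elB} : Set G) := elZ_mem_closure
      exact (Subgroup.closure_le X).2 (by
        rintro g (rfl | rfl) <;> assumption) hcz
    rw [← e]
    exact mul_mem (mul_mem hk hz) (inv_mem hk)
  have hsmall : ∀ i ∈ TIdx X, cget sLab i ∈ smallLab := by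
    intro i hi
    obtain ⟨hl, hiff⟩ := tidx_root ha hb i hi.1
    have hr : cget sRoots (cget sLab i) ∈ TIdx X := hiff.1 hi
    have hzr := hzX _ hr
    have hw := wit_spec hl
    unfold witOK at hw
    generalize wits.getD (cget sLab i) (3, false, []) = c at hw
    obtain ⟨tag, moved, ws⟩ := c
    simp only at hw
    cases h1 : Nat.beq tag 1
    · rw [h1, cond_false] at hw
      cases h2 : Nat.beq tag 2
      · rw [h2, cond_false, Bool.and_eq_true, List.any_eq_true] at hw
        obtain ⟨x, hx, hxe⟩ := hw.2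
        rw [Nat.eq_of_beq_eq_true hxe]
        exact hx
      · rw [h2, cond_true] at hw
        obtain ⟨l, hl5, hne⟩ := hcon moved
        exact absurd (exists_target ha hb hr.1 hzr hl5 (all5_spec hw l hl5)) hne
    · rw [h1, cond_true] at hw
      simp only [Bool.and_eq_true, Bool.not_eq_true'] at hw
      obtain ⟨g, hg, hgx⟩ := exists_sym ha hb hr.1 hzr (ws.getD 0 [])
      have hg13 : g ^ 13 = 1 := eq_one_of_fix fun k => Fin.ext (by
        rw [iter_pow hgx 13, ptB_val]
        exact Nat.eq_of_beq_eq_true (all5_spec hw.1 k.1 k.2))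
      have hg1 := no_thirteen hc hg hg13
      subst hg1
      have hall : all5 (fun m => Nat.beq (symW (cget sRoots (cget sLab i)) (ws.getD 0 []) (bPt m))
          (bPt m)) = true := List.all_eq_true.2 fun m hm => by
        rw [List.mem_range] at hm
        have := hgx (ptB ⟨m, hm⟩)
        rw [one_smul, ptB_val] at this
        exact Nat.beq_eq ▸ this.symm
      rw [hall] at hw
      exact absurd hw.2 (by simp)
  have hfin : (TIdx X).Finite := (Set.finite_lt_nat 4160).subset fun i hi => hi.1
  set S : Finset ℕ := (Finset.range 4).filter fun t =>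
    cget sRoots (smallLab.getD t 0) ∈ TIdx X with hS
  have hcount : (TIdx X).ncard = ∑ t ∈ S, smallSize.getD t 0 := by
    rw [Set.ncard_eq_toFinset_card _ hfin, Finset.card_eq_sum_card_fiberwise
      (f := fun i => smallLab.idxOf (cget sLab i)) (t := S) (fun i hi => ?_)]
    · refine Finset.sum_congr rfl fun t ht => ?_
      rw [hS, Finset.mem_filter, Finset.mem_range] at ht
      rw [← Nat.eq_of_beq_eq_true (allB_spec small_ok t ht.1),
        ← List.toFinset_card_of_nodup (List.Nodup.filter _ List.nodup_range)]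
      congr 1
      ext i
      have hget : ∀ t < 4, smallLab.idxOf (smallLab.getD t 0) = t := by decide
      rw [Finset.mem_filter, Set.Finite.mem_toFinset, List.mem_toFinset, List.mem_filter,
        List.mem_range, Nat.beq_eq]
      constructor
      · rintro ⟨hi, he⟩
        refine ⟨hi.1, ?_⟩
        rw [← he]
        have hm := hsmall i hi
        rw [List.getD_eq_getElem _ _ (List.idxOf_lt_length_iff.2 hm), List.getElem_idxOf]
      · rintro ⟨hi, he⟩
        refine ⟨?_, by rw [he, hget t ht.1]⟩
        rw [(tidx_root ha hb i hi).2, he]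
        exact ht.2
    · rw [Finset.mem_coe, Set.Finite.mem_toFinset] at hi
      rw [hS, Finset.mem_coe, Finset.mem_filter, Finset.mem_range]
      have hm := hsmall i hi
      have hlt : smallLab.idxOf (cget sLab i) < 4 := List.idxOf_lt_length_iff.2 hm
      refine ⟨hlt, ?_⟩
      rw [List.getD_eq_getElem _ _ (List.idxOf_lt_length_iff.2 hm), List.getElem_idxOf]
      exact (tidx_root ha hb i hi.1).2.1 hi
  have hr0 : cget sRoots 0 = 0 := by decide +kernel
  have h0S : 0 ∈ S := by
    rw [hS, Finset.mem_filter, Finset.mem_range]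
    exact ⟨by norm_num, by rw [show smallLab.getD 0 0 = 0 from rfl, hr0]; exact h0⟩
  have hkey : ∀ S ∈ (Finset.range 4).powerset, 0 ∈ S →
      ¬ 604800 ∣ (∑ t ∈ S, smallSize.getD t 0) * 60480 := by decide +kernel
  refine hkey S (Finset.mem_powerset.2 (Finset.filter_subset _ _)) h0S ?_
  rw [← hcount]
  exact (tidx_dvd hX hc).1

end

end Cfsg.Agent.Golay.SuzRankThree
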